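import Cfsg.Agent.Lib.Goldschmidt.Pair
import Mathlib.GroupTheory.SchurZassenhaus
import Cfsg.Agent.Lib.PGroup.Basic

/-!
Goldschmidt: two commuting strongly closed subgroups with trivial intersection have commuting conjugates
modulo the largest normal subgroup of odd order.
-/

set_option autoImplicit false
set_option linter.unusedSectionVars false
set_option linter.style.haveILetI false

namespace CfsgLib.Goldschmidt

open Subgroup Cfsg
open scoped commutatorElement

universe u

variable {G : Type u} [Group G] [Finite G]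

theorem oddCore_normal_le_bot (hO : oddCore G = ⊥) {N : Subgroup G} [N.Normal] (hN : Odd (Nat.card N)) :
    N = ⊥ := eq_bot_iff.2 ((Cores.le_oddCore_of_odd hN).trans hO.le)

theorem map_oddCore_eq_bot (hO : oddCore G = ⊥) (N : Subgroup G) [N.Normal] :
    (oddCore ↥N).map N.subtype = ⊥ := by
  haveI := Cores.map_subtype_pPrimeCore_normal 2 N
  refine oddCore_normal_le_bot hO ?_
  rw [card_map_of_injective N.subtype_injective]
  exact Cores.odd_card_oddCore

theorem odd_or_two {M : Subgroup G} [M.Normal] (hab : ∀ a ∈ M, ∀ b ∈ M, a * b = b * a) (hO : oddCore G = ⊥)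
    (hmin : ∀ K : Subgroup G, K.Normal → K ≤ M → K = ⊥ ∨ K = M) (hM : M ≠ ⊥) : IsPGroup 2 M := by
  let T : Subgroup G :=
    { carrier := {x | x ∈ M ∧ ∃ k : ℕ, x ^ 2 ^ k = 1}
      one_mem' := ⟨one_mem _, 0, one_pow _⟩
      mul_mem' := fun {a b} ha hb => ⟨mul_mem ha.1 hb.1, by
        obtain ⟨k, hk⟩ := ha.2
        obtain ⟨l, hl⟩ := hb.2
        refine ⟨k + l, ?_⟩
        rw [Commute.mul_pow (hab a ha.1 b hb.1), pow_add, pow_mul, hk, one_pow, one_mul, mul_comm (2 ^ k),
          pow_mul, hl, one_pow]⟩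
      inv_mem' := fun {a} ha => ⟨inv_mem ha.1, by
        obtain ⟨k, hk⟩ := ha.2
        exact ⟨k, by rw [inv_pow, hk, inv_one]⟩⟩ }
  haveI : T.Normal := ⟨fun x hx g => ⟨Normal.conj_mem inferInstance x hx.1 g, by
    obtain ⟨k, hk⟩ := hx.2
    exact ⟨k, by rw [conj_pow, hk, mul_one, mul_inv_cancel]⟩⟩⟩
  rcases hmin T inferInstance fun x hx => hx.1 with h | h
  · refine absurd (oddCore_normal_le_bot hO ?_) hM
    rw [← Nat.not_even_iff_odd, even_iff_two_dvd]
    intro h2
    haveI : Fact (Nat.Prime 2) := ⟨Nat.prime_two⟩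
    obtain ⟨x, hx⟩ := exists_prime_orderOf_dvd_card' (G := ↥M) 2 h2
    have h1 : ((x : ↥M) : G) ∈ T := ⟨x.2, 1, by
      rw [pow_one, ← SubmonoidClass.coe_pow, ← hx, pow_orderOf_eq_one, OneMemClass.coe_one]⟩
    rw [h, mem_bot] at h1
    rw [← orderOf_coe, h1, orderOf_one] at hx
    omega
  · intro x
    obtain ⟨k, hk⟩ := (h.ge x.2).2
    exact ⟨k, Subtype.ext (by simpa using hk)⟩

/-- A strongly closed subgroup meeting the normal subgroup `M` trivially centralizes it. -/
theorem centralizes_of_disjoint (hO : oddCore G = ⊥) {P : Sylow 2 G} {S : Subgroup G}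
    (hS : IsStronglyClosed S (P : Subgroup G)) (M : Subgroup G) [M.Normal] (hSM : S ⊓ M = ⊥) :
    ∀ k : ℕ, ∀ s ∈ S, s ^ 2 ^ k = 1 → s ∈ centralizer (M : Set G) := by
  haveI : Fact (Nat.Prime 2) := ⟨Nat.prime_two⟩
  intro k
  induction k with
  | zero => intro s _ hs; rw [pow_zero, pow_one] at hs; exact hs ▸ one_mem _
  | succ k ih =>
    intro s hs hpow
    have hs2 : s ^ 2 ∈ centralizer (M : Set G) :=
      ih (s ^ 2) (pow_mem hs 2) (by rwa [← pow_mul, ← pow_succ'])
    by_cases hs1 : s = 1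
    · exact hs1 ▸ one_mem _
    set H := M ⊔ zpowers s with hH
    set C₀ := (zpowers (s ^ 2)).subgroupOf H with hC₀
    have hC₀c : C₀ ≤ center ↥H := by
      intro c hc
      rw [mem_center_iff]
      intro g
      obtain ⟨i, hi⟩ := mem_zpowers_iff.1 (show (c : G) ∈ zpowers (s ^ 2) from hc)
      have hle : H ≤ centralizer ({(c : G)} : Set G) := by
        refine sup_le (fun m hm => ?_) (zpowers_le.2 ?_)
        · rw [mem_centralizer_singleton_iff, ← hi]
          exact ((show Commute m (s ^ 2) from mem_centralizer_iff.1 hs2 m hm).zpow_right i).eq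
        · rw [mem_centralizer_singleton_iff, ← hi]
          exact (((Commute.refl s).pow_right 2).zpow_right i).eq
      exact Subtype.ext (mem_centralizer_singleton_iff.1 (hle g.2))
    haveI : C₀.Normal := ⟨fun c hc g => by
      rw [mem_center_iff.1 (hC₀c hc) g, mul_inv_cancel_right]
      exact hc⟩
    set π := QuotientGroup.mk' C₀ with hπ
    set sc : ↥H := ⟨s, mem_sup_right (mem_zpowers s)⟩ with hsc
    have hsp : IsPGroup 2 ↥(zpowers s) := (P.isPGroup'.to_le hS.1).to_le (zpowers_le.2 hs)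
    have hne : π sc ≠ 1 := by
      rw [Ne, hπ, QuotientGroup.mk'_apply, QuotientGroup.eq_one_iff]
      intro hmem
      obtain ⟨i, hi⟩ := mem_zpowers_iff.1 (show s ∈ zpowers (s ^ 2) from hmem)
      obtain ⟨⟨n, hn⟩⟩ : Nonempty {n : ℕ // orderOf s = 2 ^ n} := by
        obtain ⟨n, hn⟩ := hsp.exists_card_eq
        exact ⟨⟨n, by rwa [Nat.card_zpowers] at hn⟩⟩
      rcases Nat.eq_zero_or_pos n with rfl | hn0
      · exact hs1 (orderOf_eq_one_iff.1 (by simpa using hn))
      · have h2 : s ^ (2 * i - 1) = 1 := by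
          rw [zpow_sub_one, zpow_mul, zpow_two, ← pow_two, hi, mul_inv_cancel]
        have h3 := (orderOf_dvd_iff_zpow_eq_one (x := s) (i := 2 * i - 1)).2 h2
        rw [hn] at h3
        have h4 : (2 : ℤ) ∣ 2 * i - 1 := (dvd_pow_self (2 : ℤ) hn0.ne').trans (by exact_mod_cast h3)
        omega
    have hord : orderOf (π sc) = 2 := by
      refine orderOf_eq_prime ?_ hne
      rw [← map_pow]
      exact (QuotientGroup.eq_one_iff _).2 (show (((sc ^ 2 : ↥H) : G)) ∈ zpowers (s ^ 2) from mem_zpowers _)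
    have hker : IsPGroup 2 ↥π.ker := by
      rw [QuotientGroup.ker_mk']
      exact (hsp.to_le (zpowers_le.2 (pow_mem (mem_zpowers s) 2))).comap_of_injective H.subtype
        H.subtype_injective
    have hsM : ∀ h ∈ H, s⁻¹ * (h * s * h⁻¹) ∈ M := by
      intro h hh
      have h1 : (QuotientGroup.mk' M h) * (QuotientGroup.mk' M s) = QuotientGroup.mk' M s * QuotientGroup.mk' M h := by
        have hle : H ≤ (centralizer ({QuotientGroup.mk' M s} : Set (G ⧸ M))).comap (QuotientGroup.mk' M) :=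
          sup_le (fun m hm => by
            rw [mem_comap, show QuotientGroup.mk' M m = 1 from (QuotientGroup.eq_one_iff m).2 hm]
            exact one_mem _) (zpowers_le.2 (mem_centralizer_singleton_iff.2 rfl))
        exact mem_centralizer_singleton_iff.1 (hle hh)
      rw [← QuotientGroup.eq_one_iff, ← QuotientGroup.mk'_apply M, map_mul, map_mul, map_mul, map_inv, map_inv,
        h1]
      group
    have hiso : Cfsg.IsIsolatedInvolution (π sc) := by
      refine ⟨hord, fun q hq => ?_⟩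
      obtain ⟨g, rfl⟩ := QuotientGroup.mk'_surjective C₀ q
      set R := (zpowers (π sc) ⊔ zpowers (π (g * sc * g⁻¹))).comap π with hR
      have hRp : IsPGroup 2 R := by
        refine IsPGroup.comap_of_ker_isPGroup ?_ π hker
        have h1 : IsPGroup 2 ↥(zpowers (π sc)) := IsPGroup.of_card (n := 1) (by
          rw [Nat.card_zpowers, hord, pow_one])
        have h2 : IsPGroup 2 ↥(zpowers (π (g * sc * g⁻¹))) := IsPGroup.of_card (n := 1) (by
          rw [Nat.card_zpowers, map_mul, map_mul, map_inv, pow_one]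
          exact (orderOf_injective (MulAut.conj (π g)).toMonoidHom (MulAut.conj (π g)).injective _).trans hord)
        refine h1.to_sup_of_normal_left' h2 (zpowers_le.2 (centralizer_le_normalizer _
          (mem_centralizer_iff.2 fun a ha => ?_)))
        obtain ⟨i, rfl⟩ := mem_zpowers_iff.1 ha
        rw [map_mul, map_mul, map_inv]
        exact (hq.zpow_left i).eq
      set K := (P : Subgroup G) ⊔ M with hK
      have hRK : R.map H.subtype ≤ K := (map_subtype_le _).trans
        (sup_le le_sup_right ((zpowers_le.2 (hS.1 hs)).trans le_sup_left))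
      obtain ⟨l, hl⟩ := exists_conj_le_sylow (P.subtype (le_sup_left : (P : Subgroup G) ≤ K))
        ((hRp.map H.subtype).of_equiv (subgroupOfEquivOfLe hRK).symm)
      obtain ⟨p, hp, m, hm, hpm⟩ := mem_sup_of_normal_right.1 l.2
      have key : ∀ x ∈ R, m * (x : G) * m⁻¹ ∈ (P : Subgroup G) := by
        intro x hx
        have h1 : (l : G) * x * (l : G)⁻¹ ∈ (P : Subgroup G) := hl ⟨x, hRK ⟨x, hx, rfl⟩⟩ ⟨x, hx, rfl⟩
        have h2 := mul_mem (mul_mem (inv_mem hp) h1) hp
        rwa [← hpm, show p⁻¹ * (p * m * x * (p * m)⁻¹) * p = m * x * m⁻¹ by group] at h2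
      have huniq : ∀ x ∈ R, (x : G) ∈ conjSet S → s⁻¹ * (x : G) ∈ M → m * (x : G) * m⁻¹ = s := by
        intro x hx hxS hxM
        have h1 := mem_of_closed hS hxS (key x hx)
        have h2 : s⁻¹ * (m * (x : G) * m⁻¹) ∈ M := by
          rw [show s⁻¹ * (m * (x : G) * m⁻¹) = (s⁻¹ * m * s) * (s⁻¹ * x) * m⁻¹ by group]
          exact mul_mem (mul_mem (Normal.conj_mem' inferInstance m hm s) hxM) (inv_mem hm)
        have h3 : s⁻¹ * (m * (x : G) * m⁻¹) ∈ (⊥ : Subgroup G) := hSM ▸ ⟨S.mul_mem (S.inv_mem hs) h1, h2⟩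
        exact (inv_mul_eq_one.1 (mem_bot.1 h3)).symm
      have e1 := huniq sc (show π sc ∈ _ from mem_sup_left (mem_zpowers _)) (subset_conjSet hs)
        (by simp [hsc, M.one_mem])
      have e2 := huniq (g * sc * g⁻¹) (show π (g * sc * g⁻¹) ∈ _ from mem_sup_right (mem_zpowers _))
        (conj_mem_conjSet (subset_conjSet hs) (g : G)) (hsM g g.2)
      have e3 : g * sc * g⁻¹ = sc := Subtype.ext ((MulAut.conj m).injective (e2.trans e1.symm))
      rw [← map_inv, ← map_mul, ← map_mul, e3]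
    refine mem_centralizer_iff.2 fun m hm => ?_
    set mc : ↥H := ⟨m, mem_sup_left hm⟩ with hmc
    set T := ((oddCore (↥H ⧸ C₀)).comap π) ⊓ M.subgroupOf H with hT
    have hTodd : Odd (Nat.card T) := by
      have hker' : T ⊓ π.ker = ⊥ := by
        rw [eq_bot_iff]
        intro t ht
        rw [QuotientGroup.ker_mk'] at ht
        have h1 : (t : G) ∈ S ⊓ M := ⟨zpowers_le.2 (pow_mem hs 2) ht.2, ht.1.2⟩
        rw [hSM, mem_bot] at h1
        exact mem_bot.2 (Subtype.ext h1)
      have h2 : Nat.card (T.map π) = Nat.card T := by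
        let f : ↥T →* ↥H ⧸ C₀ := π.comp T.subtype
        have hf : Function.Injective f := (injective_iff_map_eq_one f).2 fun t ht =>
          Subtype.ext (mem_bot.1 (hker' ▸ ⟨t.2, ht⟩))
        have hrange : f.range = T.map π := by rw [MonoidHom.range_eq_map, ← map_map, ← MonoidHom.range_eq_map,
          range_subtype]
        rw [← hrange]
        exact (Nat.card_congr (MonoidHom.ofInjective hf).toEquiv).symm
      rw [← h2]
      exact Cores.odd_card_oddCore.of_dvd_nat (card_dvd_of_le ((map_mono inf_le_left).trans (map_comap_le _ _)))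
    have hmem : ⁅sc, mc⁆ ∈ T := by
      refine ⟨?_, ?_⟩
      · show π ⁅sc, mc⁆ ∈ oddCore _
        rw [map_commutatorElement, commutatorElement_def]
        exact Invol.zstar hiso (π mc)
      · show s * m * s⁻¹ * m⁻¹ ∈ M
        exact mul_mem (Normal.conj_mem inferInstance m hm s) (inv_mem hm)
    set T' := T.map H.subtype with hT'
    have hT'M : T' ≤ M := by rintro _ ⟨t, ht, rfl⟩; exact ht.2
    haveI : (T'.subgroupOf M).Normal := by
      refine (normal_subgroupOf_iff_le_normalizer hT'M).2 fun g hg => ?_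
      refine Solvable.mem_normalizer_of_conj_mem ?_
      rintro _ ⟨t, ht, rfl⟩
      refine ⟨⟨g, mem_sup_left hg⟩ * t * ⟨g, mem_sup_left hg⟩⁻¹, ?_, rfl⟩
      haveI : (M.subgroupOf H).Normal := Normal.subgroupOf inferInstance H
      exact Normal.conj_mem inferInstance t ht _
    have h1 := map_mono (f := M.subtype) (Cores.le_oddCore_of_odd (N := T'.subgroupOf M) (by
      rw [Nat.card_congr (subgroupOfEquivOfLe hT'M).toEquiv, hT', card_map_of_injective H.subtype_injective]
      exact hTodd))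
    rw [map_subgroupOf_eq_of_le hT'M, map_oddCore_eq_bot hO M] at h1
    have h2 : ((⁅sc, mc⁆ : ↥H) : G) ∈ (⊥ : Subgroup G) := h1 ⟨_, hmem, rfl⟩
    exact (commutatorElement_eq_one_iff_mul_comm.1 (mem_bot.1 h2)).symm

/-- A minimal normal subgroup met trivially by one of the subgroups is central, or everything commutes. -/
theorem SCPair.central_of_disjoint {P : Sylow 2 G} {S₁ S₂ : Subgroup G} (h : SCPair P S₁ S₂)
    (hO : oddCore G = ⊥) (hind : ∀ H : Subgroup G, H ≠ ⊤ → Commutes ↥H) (M : Subgroup G) [M.Normal]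
    (hM : M ≠ ⊥) (hmin : ∀ K : Subgroup G, K.Normal → K ≤ M → K = ⊥ ∨ K = M) (hSM : S₂ ⊓ M = ⊥) :
    M ≤ center G ∨ ∀ x ∈ conjSet S₁, ∀ y ∈ conjSet S₂, ⁅x, y⁆ = 1 := by
  haveI : Fact (Nat.Prime 2) := ⟨Nat.prime_two⟩
  set C := centralizer (M : Set G) with hC
  have hyC : ∀ y ∈ conjSet S₂, y ∈ C := by
    intro y hy
    obtain ⟨g, hg⟩ := hy
    obtain ⟨n, hn⟩ := (P.isPGroup'.to_le h.closed₂.1) ⟨_, hg⟩
    have h1 := centralizes_of_disjoint hO h.closed₂ M hSM n _ hg (by simpa using congrArg Subtype.val hn)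
    have h2 := Normal.conj_mem' (inferInstance : C.Normal) _ h1 g
    rwa [show g⁻¹ * (g * y * g⁻¹) * g = y by group] at h2
  by_cases htop : ∀ x ∈ conjSet S₁, C ⊔ zpowers x ≠ ⊤
  · refine Or.inr fun x hx y hy => ?_
    set H := C ⊔ zpowers x with hH
    have h1 := h.restrict (hind H (htop x hx)) ⟨x, mem_sup_right (mem_zpowers x)⟩
      ⟨y, mem_sup_left (hyC y hy)⟩ hx hy
    set T := ((oddCore ↥H).map H.subtype) ⊓ C with hT
    have hmem : ⁅x, y⁆ ∈ T := ⟨⟨_, h1, rfl⟩,
      C.mul_mem (Normal.conj_mem inferInstance y (hyC y hy) x) (C.inv_mem (hyC y hy))⟩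
    haveI : (T.subgroupOf C).Normal := by
      refine (normal_subgroupOf_iff_le_normalizer inf_le_right).2
        (Solvable.le_normalizer_inf (fun g hg => Solvable.mem_normalizer_of_conj_mem ?_) le_normalizer)
      rintro _ ⟨t, ht, rfl⟩
      exact ⟨⟨g, mem_sup_left hg⟩ * t * ⟨g, mem_sup_left hg⟩⁻¹, Normal.conj_mem inferInstance t ht _, rfl⟩
    have h2 := map_mono (f := C.subtype) (Cores.le_oddCore_of_odd (N := T.subgroupOf C) (by
      rw [Nat.card_congr (subgroupOfEquivOfLe (inf_le_right : T ≤ C)).toEquiv]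
      refine Odd.of_dvd_nat ?_ (card_dvd_of_le (inf_le_left : T ≤ (oddCore ↥H).map H.subtype))
      rw [card_map_of_injective H.subtype_injective]
      exact Cores.odd_card_oddCore))
    rw [map_subgroupOf_eq_of_le inf_le_right, map_oddCore_eq_bot hO C] at h2
    exact mem_bot.1 (h2 hmem)
  · left
    push Not at htop
    obtain ⟨x, hx, hxtop⟩ := htop
    have hxp := isPGroup_zpowers_of_conjSet h.closed₁ hx
    have hMC : M ≤ C := by
      rcases hmin (M ⊓ C) inferInstance inf_le_left with hMC | hMC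
      swap
      · exact inf_eq_left.1 hMC
      exfalso
      have hp : IsPGroup 2 ↥((⊤ : Subgroup G).map (QuotientGroup.mk' C)) := by
        rw [← hxtop, Subgroup.map_sup, QuotientGroup.map_mk'_self, bot_sup_eq]
        exact hxp.map _
      have hinj : Function.Injective ((QuotientGroup.mk' C).comp M.subtype) :=
        (injective_iff_map_eq_one _).2 fun m hm => Subtype.ext (mem_bot.1
          (hMC ▸ ⟨m.2, (QuotientGroup.eq_one_iff _).1 hm⟩))
      have hMp : IsPGroup 2 M := by
        intro m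
        obtain ⟨k, hk⟩ := hp ⟨QuotientGroup.mk' C m, ⟨m, mem_top _, rfl⟩⟩
        exact ⟨k, hinj (by simpa using congrArg Subtype.val hk)⟩
      haveI : Nontrivial ↥M := (nontrivial_iff_ne_bot M).2 hM
      haveI := hMp.center_nontrivial
      obtain ⟨⟨c, hc⟩, hc1⟩ := exists_ne (1 : ↥(center ↥M))
      have : (c : G) ∈ M ⊓ C := ⟨c.2, mem_centralizer_iff.2 fun m hm =>
        congrArg Subtype.val (mem_center_iff.1 hc ⟨m, hm⟩)⟩
      rw [hMC, mem_bot] at this
      exact hc1 (Subtype.ext (Subtype.ext this))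
    have hab : ∀ a ∈ M, ∀ b ∈ M, a * b = b * a := fun a ha b hb => mem_centralizer_iff.1 (hMC hb) a ha
    have hMp := odd_or_two hab hO hmin hM
    set R := M ⊔ zpowers x with hR
    have hRp : IsPGroup 2 R :=
      hMp.to_sup_of_normal_left' hxp (by rw [normalizer_eq_top_iff.2 (inferInstance : M.Normal)]; exact le_top)
    haveI : Nontrivial ↥(M.subgroupOf R) := (nontrivial_iff_ne_bot _).2 fun e => hM (by
      have := congrArg (map R.subtype) e
      rwa [map_subgroupOf_eq_of_le (le_sup_left : M ≤ R), Subgroup.map_bot] at this)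
    obtain ⟨w, hw, hw1⟩ : ∃ w, w ∈ M.subgroupOf R ⊓ center ↥R ∧ w ≠ 1 := by
      by_contra hcon
      push Not at hcon
      exact (CfsgLib.PGroup.inf_center_ne_bot hRp (M.subgroupOf R) ((nontrivial_iff_ne_bot _).1 inferInstance))
        (eq_bot_iff.2 fun w hw => mem_bot.2 (hcon w hw))
    have hwc : (w : G) ∈ center G := by
      have hle : (⊤ : Subgroup G) ≤ centralizer ({(w : G)} : Set G) := by
        rw [← hxtop]
        refine sup_le (fun c hc => ?_) (zpowers_le.2 ?_)
        · exact mem_centralizer_singleton_iff.2 (mem_centralizer_iff.1 hc _ hw.1).symm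
        · exact mem_centralizer_singleton_iff.2
            (congrArg Subtype.val (mem_center_iff.1 hw.2 ⟨x, mem_sup_right (mem_zpowers x)⟩))
      exact mem_center_iff.2 fun g => mem_centralizer_singleton_iff.1 (hle (mem_top g))
    rcases hmin (M ⊓ center G) inferInstance inf_le_left with hb | hb
    · have : (w : G) ∈ (⊥ : Subgroup G) := hb ▸ ⟨hw.1, hwc⟩
      exact absurd (Subtype.ext (mem_bot.1 this)) hw1
    · exact inf_eq_left.1 hb

/-- A central involution which can be factored out. -/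
theorem SCPair.exists_central_or {P : Sylow 2 G} {S₁ S₂ : Subgroup G} (h : SCPair P S₁ S₂)
    (hO : oddCore G = ⊥) (hind : ∀ H : Subgroup G, H ≠ ⊤ → Commutes ↥H) (M : Subgroup G) [M.Normal]
    (hM : M ≠ ⊥) (hMt : M ≠ ⊤) (hmin : ∀ K : Subgroup G, K.Normal → K ≤ M → K = ⊥ ∨ K = M) :
    (∃ z ∈ center G, orderOf z = 2) ∨ ∀ x ∈ conjSet S₁, ∀ y ∈ conjSet S₂, ⁅x, y⁆ = 1 := by
  haveI : Fact (Nat.Prime 2) := ⟨Nat.prime_two⟩
  have hcent : M ≤ center G → ∃ z ∈ center G, orderOf z = 2 := fun hle => by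
    have hp := odd_or_two (fun a ha b hb => (mem_center_iff.1 (hle hb) a)) hO hmin hM
    haveI : Nontrivial ↥M := (nontrivial_iff_ne_bot M).2 hM
    obtain ⟨k, hk0, hk⟩ := (IsPGroup.nontrivial_iff_card hp).1 this
    obtain ⟨z, hz⟩ := exists_prime_orderOf_dvd_card' (G := ↥M) 2 (hk ▸ dvd_pow_self 2 hk0.ne')
    exact ⟨z, hle z.2, by rw [orderOf_coe, hz]⟩
  by_cases h2 : S₂ ⊓ M = ⊥
  · exact (h.central_of_disjoint hO hind M hM hmin h2).imp_left hcent
  by_cases h1 : S₁ ⊓ M = ⊥
  · exact (h.swap.central_of_disjoint hO hind M hM hmin h1).imp hcent fun hc x hx y hy => by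
      rw [← commutatorElement_inv, hc y hy x hx, inv_one]
  exfalso
  have hgen : ∀ S : Subgroup G, S ⊓ M ≠ ⊥ → M = closure (conjSet S ∩ (M : Set G)) := by
    intro S hne
    set N := closure (conjSet S ∩ (M : Set G)) with hN
    haveI : N.Normal := ⟨fun n hn g => by
      induction hn using Subgroup.closure_induction with
      | mem y hy => exact subset_closure ⟨conj_mem_conjSet hy.1 g, Normal.conj_mem inferInstance y hy.2 g⟩
      | one => simp
      | mul a b _ _ ha hb =>
        rw [show g * (a * b) * g⁻¹ = (g * a * g⁻¹) * (g * b * g⁻¹) by group]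
        exact mul_mem ha hb
      | inv a _ ha =>
        rw [show g * a⁻¹ * g⁻¹ = (g * a * g⁻¹)⁻¹ by group]
        exact inv_mem ha⟩
    refine ((hmin N inferInstance ((closure_le _).2 Set.inter_subset_right)).resolve_left fun e => hne ?_).symm
    exact eq_bot_iff.2 fun s hs => e ▸ subset_closure ⟨subset_conjSet hs.1, hs.2⟩
  have hab : ∀ a ∈ M, ∀ b ∈ M, a * b = b * a := by
    have hle : M ≤ centralizer (M : Set G) := by
      rw [congrArg (fun K : Subgroup G => centralizer (K : Set G)) (hgen S₂ h2), centralizer_closure]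
      refine le_trans (hgen S₁ h1).le ((closure_le _).2 fun a ha => mem_centralizer_iff.2 fun b hb => ?_)
      have h3 := h.restrict (hind M hMt) ⟨a, ha.2⟩ ⟨b, hb.2⟩ ha.1 hb.1
      have h4 : ⁅a, b⁆ ∈ (⊥ : Subgroup G) := map_oddCore_eq_bot hO M ▸ ⟨_, h3, rfl⟩
      exact (commutatorElement_eq_one_iff_mul_comm.1 (mem_bot.1 h4)).symm
    exact fun a ha b hb => (mem_centralizer_iff.1 (hle hb) a ha)
  have hMP : M ≤ (P : Subgroup G) :=
    ((Cores.le_pCore (odd_or_two hab hO hmin hM)).trans (Cores.pCore_le_sylow P))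
  have hle : ∀ {S : Subgroup G}, IsStronglyClosed S (P : Subgroup G) → S ⊓ M ≠ ⊥ → M ≤ S := fun {S} hS hne => by
    rw [hgen S hne]
    exact (closure_le _).2 fun y hy => mem_of_closed_self hS hy.1 (hMP hy.2)
  exact hM (eq_bot_iff.2 ((le_inf (hle h.closed₁ h1) (hle h.closed₂ h2)).trans h.disj.le))

/-- A central involution may be factored out. -/
theorem SCPair.of_central {P : Sylow 2 G} {S₁ S₂ : Subgroup G} (h : SCPair P S₁ S₂) (hO : oddCore G = ⊥)
    {z : G} (hz : z ∈ center G) (hzo : orderOf z = 2)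
    (hchoice : ∀ w ∈ center G, orderOf w = 2 → w ∈ S₁ ∨ w ∈ S₂ → z ∈ S₁ ∨ z ∈ S₂)
    (hQ : ∀ (N : Subgroup G) [N.Normal], N ≠ ⊥ → Commutes (G ⧸ N)) :
    ∀ x ∈ conjSet S₁, ∀ y ∈ conjSet S₂, ⁅x, y⁆ = 1 := by
  haveI : Fact (Nat.Prime 2) := ⟨Nat.prime_two⟩
  set N := zpowers z with hN
  haveI : N.Normal := ⟨fun n hn g => by
    obtain ⟨i, rfl⟩ := mem_zpowers_iff.1 hn
    rw [mem_center_iff.1 (zpow_mem hz i) g, mul_inv_cancel_right]
    exact zpow_mem (mem_zpowers z) i⟩
  have hz2 : z * z = 1 := by rw [← pow_two, ← hzo, pow_orderOf_eq_one]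
  have hNmem : ∀ n ∈ N, n = 1 ∨ n = z := by
    intro n hn
    obtain ⟨i, rfl⟩ := mem_zpowers_iff.1 hn
    rcases Int.even_or_odd i with ⟨m, rfl⟩ | ⟨m, rfl⟩
    · exact Or.inl (by rw [← two_mul, zpow_mul, zpow_two, hz2, one_zpow])
    · exact Or.inr (by rw [zpow_add, zpow_mul, zpow_two, hz2, one_zpow, one_mul, zpow_one])
  have hN1 : N ≠ ⊥ := fun e => by
    have : z ∈ (⊥ : Subgroup G) := e ▸ mem_zpowers z
    rw [mem_bot.1 this, orderOf_one] at hzo
    omega
  have hd : ∀ a ∈ S₁, ∀ b ∈ S₂, a⁻¹ * b ∈ N → a ∈ N := by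
    intro a ha b hb hab
    have hbot : ∀ {v : G}, v ∈ S₁ → v ∈ S₂ → v = 1 := fun h1 h2 => mem_bot.1 (h.disj ▸ ⟨h1, h2⟩)
    rcases hNmem _ hab with e | e
    · rw [hbot ha (inv_mul_eq_one.1 e ▸ hb)]; exact one_mem _
    have hba : b = a * z := by rw [← e]; group
    by_cases ha1 : a = 1
    · rw [ha1]; exact one_mem _
    have ha2 : a * a = 1 := by
      refine hbot (mul_mem ha ha) ?_
      have h1 : b * b = a * a := by
        rw [hba]
        calc a * z * (a * z) = a * (z * a) * z := by group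
          _ = a * (a * z) * z := by rw [mem_center_iff.1 hz a]
          _ = a * a * (z * z) := by group
          _ = a * a := by rw [hz2, mul_one]
      exact h1 ▸ mul_mem hb hb
    have hao : orderOf a = 2 := orderOf_eq_prime (by rw [pow_two, ha2]) ha1
    have hiso : Cfsg.IsIsolatedInvolution a := by
      refine ⟨hao, fun g hg => ?_⟩
      have hR : IsPGroup 2 ↥(zpowers a ⊔ zpowers (g * a * g⁻¹)) :=
        (isPGroup_zpowers_of_conjSet h.closed₁ (subset_conjSet ha)).to_sup_of_normal_left'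
          (isPGroup_zpowers_of_conjSet h.closed₁ (conj_mem_conjSet (subset_conjSet ha) g))
          (zpowers_le.2 (centralizer_le_normalizer _ (mem_centralizer_iff.2 fun u hu => by
            obtain ⟨i, rfl⟩ := mem_zpowers_iff.1 hu
            exact (hg.zpow_left i).eq)))
      obtain ⟨l, hl⟩ := exists_conj_le_sylow P hR
      have hzP : z ∈ (P : Subgroup G) := by
        have := mul_mem (inv_mem (h.closed₁.1 ha)) (h.closed₂.1 hb)
        rwa [e] at this
      have key : ∀ c : G, (c * a * c⁻¹) ∈ (P : Subgroup G) → c * a * c⁻¹ * z ∈ S₂ := fun c hc => by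
        have h1 : c * b * c⁻¹ = c * a * c⁻¹ * z := by
          rw [hba]
          calc c * (a * z) * c⁻¹ = c * a * (z * c⁻¹) := by group
            _ = c * a * (c⁻¹ * z) := by rw [mem_center_iff.1 hz c⁻¹]
            _ = c * a * c⁻¹ * z := by group
        rw [← h1]
        exact mem_of_closed h.closed₂ (subset_conjSet hb) (h1 ▸ mul_mem hc hzP)
      have hd1 := hl a (mem_sup_left (mem_zpowers a))
      have hd2 : l * g * a * (l * g)⁻¹ ∈ (P : Subgroup G) := by
        rw [show l * g * a * (l * g)⁻¹ = l * (g * a * g⁻¹) * l⁻¹ by group]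
        exact hl _ (mem_sup_right (mem_zpowers _))
      have h3 : (l * g * a * (l * g)⁻¹)⁻¹ * (l * a * l⁻¹) = 1 := by
        refine hbot (mul_mem (inv_mem (mem_of_closed h.closed₁ (subset_conjSet ha) hd2))
          (mem_of_closed h.closed₁ (subset_conjSet ha) hd1)) ?_
        have h4 := mul_mem (inv_mem (key _ hd2)) (key _ hd1)
        rwa [show (l * g * a * (l * g)⁻¹ * z)⁻¹ * (l * a * l⁻¹ * z)
          = z⁻¹ * ((l * g * a * (l * g)⁻¹)⁻¹ * (l * a * l⁻¹)) * z by group,
          ← mem_center_iff.1 (inv_mem hz) _, inv_mul_cancel_right] at h4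
      apply (MulAut.conj l).injective
      show l * (g * a * g⁻¹) * l⁻¹ = l * a * l⁻¹
      rw [show l * (g * a * g⁻¹) * l⁻¹ = l * g * a * (l * g)⁻¹ by group]
      exact inv_mul_eq_one.1 h3
    have hac : a ∈ center G := Invol.zstar_center hiso hO
    rcases hchoice a hac hao (Or.inl ha) with hzS | hzS
    · have : b = 1 := hbot (hba ▸ mul_mem ha hzS) hb
      have hainv : a⁻¹ = z := by rw [← e, this, mul_one]
      exact (inv_inv a) ▸ inv_mem (hainv.symm ▸ mem_zpowers z)
    · have : a = 1 := hbot ha (by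
        have := mul_mem hb (inv_mem hzS)
        rwa [hba, mul_inv_cancel_right] at this)
      exact absurd this ha1
  intro x hx y hy
  have h1 := h.quotient N (hQ N hN1) hd x hx y hy
  set π := QuotientGroup.mk' N with hπ
  set K := (oddCore (G ⧸ N)).comap π with hK
  haveI : K.Normal := Normal.comap inferInstance π
  have hNK : N ≤ K := fun n hn => by
    rw [hK, mem_comap, hπ, QuotientGroup.mk'_apply, (QuotientGroup.eq_one_iff n).2 hn]
    exact one_mem _
  have hKN : K ≤ N := by
    haveI : (N.subgroupOf K).Normal := Normal.subgroupOf inferInstance K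
    have hcard : Nat.card K = 2 * Nat.card (oddCore (G ⧸ N)) := by
      have h2 := Subgroup.relIndex_comap (⊥ : Subgroup (G ⧸ N)) π K
      rw [MonoidHom.comap_bot, QuotientGroup.ker_mk', hK,
        map_comap_eq_self_of_surjective (QuotientGroup.mk'_surjective N), relIndex_bot_left] at h2
      rw [← hK] at h2
      have h3 := relIndex_mul_relIndex ⊥ N K bot_le hNK
      rw [relIndex_bot_left, relIndex_bot_left, h2] at h3
      rw [← h3, show Nat.card N = 2 by rw [hN, Nat.card_zpowers, hzo]]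
    have hNc : Nat.card ↥(N.subgroupOf K) = 2 := by
      rw [Nat.card_congr (subgroupOfEquivOfLe hNK).toEquiv, hN, Nat.card_zpowers, hzo]
    have hNi : (N.subgroupOf K).index = Nat.card (oddCore (G ⧸ N)) := by
      have := card_mul_index (N.subgroupOf K)
      rw [hNc, hcard] at this
      omega
    obtain ⟨D, hD⟩ := exists_right_complement'_of_coprime (N := N.subgroupOf K) (by
      rw [hNc, hNi]; exact Nat.coprime_two_left.2 Cores.odd_card_oddCore)
    have hDi : D.index = 2 := by rw [hD.index_eq_card, hNc]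
    haveI : D.Normal := normal_of_index_eq_two hDi
    have hDodd : Odd (Nat.card D) := by
      have := card_mul_index D
      rw [hDi, hcard] at this
      rw [show Nat.card D = Nat.card (oddCore (G ⧸ N)) by omega]
      exact Cores.odd_card_oddCore
    have hDmem : ∀ d : ↥K, Odd (orderOf d) → d ∈ D := fun d hd => by
      rw [← QuotientGroup.eq_one_iff, ← QuotientGroup.mk'_apply, ← orderOf_eq_one_iff]
      have h3 : orderOf (QuotientGroup.mk' D d) ∣ 2 := by
        have := orderOf_dvd_natCard (QuotientGroup.mk' D d)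
        rwa [← Subgroup.index_eq_card, hDi] at this
      rcases (Nat.dvd_prime Nat.prime_two).1 h3 with e | e
      · exact e
      · have h4 := orderOf_map_dvd (QuotientGroup.mk' D) d
        rw [e] at h4
        exact absurd (hd.of_dvd_nat h4) (by decide)
    haveI : (D.map K.subtype).Normal := ⟨by
      rintro _ ⟨d, hd, rfl⟩ g
      refine ⟨⟨g * d * g⁻¹, Normal.conj_mem inferInstance _ d.2 g⟩, hDmem _ ?_, rfl⟩
      rw [← orderOf_coe]
      show Odd (orderOf ((MulAut.conj g).toMonoidHom (d : G)))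
      rw [orderOf_injective _ (MulAut.conj g).injective, orderOf_coe]
      exact hDodd.of_dvd_nat ((Subgroup.orderOf_dvd_natCard _ hd))⟩
    have hDb : D.map K.subtype = ⊥ := oddCore_normal_le_bot hO (by
      rw [card_map_of_injective K.subtype_injective]; exact hDodd)
    have hD0 : D = ⊥ := (map_eq_bot_iff_of_injective _ K.subtype_injective).1 hDb
    rw [← subgroupOf_eq_top]
    have := hD.sup_eq_top
    rwa [hD0, sup_bot_eq] at this
  have hcN : ⁅x, y⁆ ∈ N := hKN h1
  have hkerp : IsPGroup 2 ↥π.ker := by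
    rw [QuotientGroup.ker_mk']
    exact IsPGroup.of_card (n := 1) (by rw [hN, Nat.card_zpowers, hzo, pow_one])
  have hxy : π x * π y = π y * π x := by
    rw [← commutatorElement_eq_one_iff_mul_comm, ← map_commutatorElement]
    exact (QuotientGroup.eq_one_iff _).2 hcN
  have hR : IsPGroup 2 ↥((zpowers (π x) ⊔ zpowers (π y)).comap π) := by
    refine IsPGroup.comap_of_ker_isPGroup ?_ π hkerp
    refine ((MonoidHom.map_zpowers π x) ▸ (isPGroup_zpowers_of_conjSet h.closed₁ hx).map π).to_sup_of_normal_left'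
      ((MonoidHom.map_zpowers π y) ▸ (isPGroup_zpowers_of_conjSet h.closed₂ hy).map π)
      (zpowers_le.2 (centralizer_le_normalizer _ (mem_centralizer_iff.2 fun u hu => by
        obtain ⟨i, rfl⟩ := mem_zpowers_iff.1 hu
        exact ((show Commute (π x) (π y) from hxy).zpow_left i).eq)))
  exact commutatorElement_eq_one_iff_mul_comm.2 (h.two hR hx hy
    (show π x ∈ _ from mem_sup_left (mem_zpowers _)) (show π y ∈ _ from mem_sup_right (mem_zpowers _)))

/-- **Goldschmidt's theorem on commuting strongly closed subgroups.** -/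
theorem commutes (G : Type u) [Group G] [Finite G] : Commutes G := by
  suffices H : ∀ n, ∀ (G : Type u) [Group G] [Finite G], Nat.card G = n → Commutes G from H _ G rfl
  intro n
  induction n using Nat.strong_induction_on with
  | _ n ih =>
  intro G _ _ hn P S₁ S₂ h
  have hind : ∀ H : Subgroup G, H ≠ ⊤ → Commutes ↥H := fun H hH =>
    ih _ (hn ▸ lt_of_le_of_ne (card_le_card_group H) fun e => hH (card_eq_iff_eq_top H |>.1 e)) ↥H rfl
  have hQ : ∀ (N : Subgroup G) [N.Normal], N ≠ ⊥ → Commutes (G ⧸ N) := fun N _ hN => by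
    refine ih _ ?_ (G ⧸ N) rfl
    rw [← hn, ← card_mul_index N, Subgroup.index_eq_card]
    exact lt_mul_of_one_lt_left Nat.card_pos (one_lt_card_iff_ne_bot N |>.2 hN)
  haveI : Fact (Nat.Prime 2) := ⟨Nat.prime_two⟩
  by_cases hO : oddCore G = ⊥
  swap
  · intro x hx y hy
    have h1 := h.quotient (oddCore G) (hQ _ hO) (fun a ha b hb hab => by
      have hp : a⁻¹ * b ∈ (P : Subgroup G) := mul_mem (inv_mem (h.closed₁.1 ha)) (h.closed₂.1 hb)
      obtain ⟨k, hk⟩ := P.isPGroup' ⟨_, hp⟩
      have h2 : Odd (orderOf (a⁻¹ * b)) :=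
        Cores.odd_card_oddCore.of_dvd_nat (Subgroup.orderOf_dvd_natCard _ hab)
      have h3 : orderOf (a⁻¹ * b) ∣ 2 ^ k := orderOf_dvd_of_pow_eq_one (by simpa using congrArg Subtype.val hk)
      have h4 : orderOf (a⁻¹ * b) = 1 := Nat.dvd_one.1
        ((Nat.coprime_two_right.2 h2).pow_right k ▸ Nat.dvd_gcd dvd_rfl h3)
      have h5 : a ∈ S₁ ⊓ S₂ := ⟨ha, by rwa [inv_mul_eq_one.1 (orderOf_eq_one_iff.1 h4)]⟩
      rw [h.disj, mem_bot] at h5
      rw [h5]
      exact one_mem _) x hx y hy
    have h2 : oddCore (G ⧸ oddCore G) = ⊥ := Cores.pPrimeCore_quotient_self 2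
    rw [h2, mem_bot] at h1
    exact (QuotientGroup.eq_one_iff _).1 h1
  suffices h0 : ∀ x ∈ conjSet S₁, ∀ y ∈ conjSet S₂, ⁅x, y⁆ = 1 from
    fun x hx y hy => by rw [h0 x hx y hy]; exact one_mem _
  by_cases hcent : ∃ z ∈ center G, orderOf z = 2
  · by_cases hS : ∃ z ∈ center G, orderOf z = 2 ∧ (z ∈ S₁ ∨ z ∈ S₂)
    · obtain ⟨z, hz, hzo, hzS⟩ := hS
      exact h.of_central hO hz hzo (fun _ _ _ _ => hzS) hQ
    · obtain ⟨z, hz, hzo⟩ := hcent
      exact h.of_central hO hz hzo (fun w hw hwo hwS => absurd ⟨w, hw, hwo, hwS⟩ hS) hQ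
  rcases subsingleton_or_nontrivial G with hs | hs
  · exact fun x _ y _ => Subsingleton.elim _ _
  by_cases hsimp : IsSimpleGroup G
  · by_cases hab : IsMulCommutative G
    · exact fun x _ y _ => commutatorElement_eq_one_iff_mul_comm.2 (hab.is_comm.comm x y)
    have hbot : ∀ {S : Subgroup G}, S = ⊥ → ∀ x ∈ conjSet S, x = 1 := fun {S} e x hx => by
      obtain ⟨g, hg⟩ := hx
      rw [e, mem_bot] at hg
      exact (MulAut.conj g).injective (hg.trans (map_one _).symm)
    intro x hx y hy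
    rcases h.bot_of_simple hab hind with e | e
    · rw [hbot e x hx, commutatorElement_one_left]
    · rw [hbot e y hy, commutatorElement_one_right]
  obtain ⟨N, hN, hN1, hNt⟩ : ∃ N : Subgroup G, N.Normal ∧ N ≠ ⊥ ∧ N ≠ ⊤ := by
    by_contra hcon
    push Not at hcon
    exact hsimp ⟨fun N hN => (em (N = ⊥)).imp_right fun h' => hcon N hN h'⟩
  obtain ⟨M, hM, hmin⟩ : ∃ M : Subgroup G, (M.Normal ∧ M ≠ ⊥ ∧ M ≤ N) ∧
      ∀ K : Subgroup G, K.Normal ∧ K ≠ ⊥ ∧ K ≤ N → K ≤ M → K = M := by
    obtain ⟨M, hM⟩ := (Set.toFinite {K : Subgroup G | K.Normal ∧ K ≠ ⊥ ∧ K ≤ N}).exists_minimal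
      ⟨N, hN, hN1, le_rfl⟩
    exact ⟨M, hM.1, fun K hK hle => hM.eq_of_le hK hle⟩
  haveI := hM.1
  refine (h.exists_central_or hO hind M hM.2.1 (fun e => hNt (top_le_iff.1 (e ▸ hM.2.2))) ?_).resolve_left hcent
  intro K hK hle
  by_cases hK1 : K = ⊥
  · exact Or.inl hK1
  · exact Or.inr (hmin K ⟨hK, hK1, hle.trans hM.2.2⟩ hle)

end CfsgLib.Goldschmidt
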