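import Cfsg.Agent.Lib.Goldschmidt.Key
import Cfsg.Agent.Lib.Signalizer.Corollaries
import Cfsg.Agent.S0205

/-!
The signalizer functor attached to two commuting four-groups of two commuting classes of involutions,
and its completion.
-/

set_option autoImplicit false
set_option linter.unusedSectionVars false
set_option linter.style.haveILetI false

namespace CfsgLib.Goldschmidt

open Subgroup Cfsg
open scoped commutatorElement

variable {G : Type*} [Group G]

/-- A four-group all of whose involutions lie in `X`. -/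
structure IsFour (X : Set G) (F : Subgroup G) : Prop where
  card : Nat.card F = 4
  mem : ∀ a ∈ F, a ≠ 1 → a ∈ X

/-- Two commuting four-groups. -/
structure Quad (X₁ X₂ : Set G) (F₁ F₂ : Subgroup G) : Prop where
  set : Setting X₁ X₂
  left : IsFour X₁ F₁
  right : IsFour X₂ F₂
  comm : ∀ a ∈ F₁, ∀ b ∈ F₂, a * b = b * a

theorem Quad.swap {X₁ X₂ : Set G} {F₁ F₂ : Subgroup G} (q : Quad X₁ X₂ F₁ F₂) : Quad X₂ X₁ F₂ F₁ :=
  ⟨q.set.swap, q.right, q.left, fun a ha b hb => (q.comm b hb a ha).symm⟩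

/-- The cores attached to the members of `F₁ ∪ F₂` lying in `W`, inside `C(W)`. -/
noncomputable def M (F₁ F₂ W : Subgroup G) : Subgroup G :=
  centralizer (W : Set G) ⊓ ⨅ p : {p : G // p ∈ W ∧ (p ∈ F₁ ∨ p ∈ F₂) ∧ p ≠ 1}, Q p.1

/-- The value at `e` of the functor. -/
noncomputable def theta (F₁ F₂ : Subgroup G) (e : G) : Subgroup G :=
  ⨆ U : {U : Subgroup G // IsHyp (F₁ ⊔ F₂) U ∧ e ∈ U}, M F₁ F₂ U.1

/-- The completion. -/
noncomputable def completion (F₁ F₂ : Subgroup G) : Subgroup G :=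
  ⨆ e : {e : G // e ∈ F₁ ⊔ F₂ ∧ e ≠ 1}, theta F₁ F₂ e.1

/-- The same subgroup, in terms of a four-group and one involution. -/
noncomputable def halfCompletion (F : Subgroup G) (p : G) : Subgroup G :=
  ⨆ i : {i : G // i ∈ F ∧ i ≠ 1}, ⁅Q i.1, zpowers p⁆ ⊔ (Q i.1 ⊓ Q p)

theorem mem_M {F₁ F₂ W : Subgroup G} {c : G} :
    c ∈ M F₁ F₂ W ↔ c ∈ centralizer (W : Set G) ∧ ∀ p ∈ W, (p ∈ F₁ ∨ p ∈ F₂) → p ≠ 1 → c ∈ Q p := by
  simp only [M, mem_inf, mem_iInf, Subtype.forall]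
  exact and_congr_right fun _ => ⟨fun h p h1 h2 h3 => h p ⟨h1, h2, h3⟩, fun h p hp => h p hp.1 hp.2.1 hp.2.2⟩

theorem M_swap (F₁ F₂ W : Subgroup G) : M F₂ F₁ W = M F₁ F₂ W := by
  ext c
  simp only [mem_M, or_comm]

theorem theta_swap (F₁ F₂ : Subgroup G) (e : G) : theta F₂ F₁ e = theta F₁ F₂ e := by
  refine le_antisymm (iSup_le fun U => ?_) (iSup_le fun U => ?_)
  · rw [M_swap]
    exact le_iSup_of_le ⟨U.1, by rw [sup_comm]; exact U.2.1, U.2.2⟩ le_rfl
  · rw [← M_swap]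
    exact le_iSup_of_le ⟨U.1, by rw [sup_comm]; exact U.2.1, U.2.2⟩ le_rfl

theorem completion_swap (F₁ F₂ : Subgroup G) : completion F₂ F₁ = completion F₁ F₂ := by
  refine le_antisymm (iSup_le fun e => ?_) (iSup_le fun e => ?_)
  · rw [theta_swap]
    exact le_iSup_of_le ⟨e.1, by rw [sup_comm]; exact e.2.1, e.2.2⟩ le_rfl
  · rw [← theta_swap]
    exact le_iSup_of_le ⟨e.1, by rw [sup_comm]; exact e.2.1, e.2.2⟩ le_rfl

theorem IsHyp.of_le {E U U' : Subgroup G} (hU : IsHyp E U) (h : U ≤ U') (h' : U' ≤ E) : IsHyp E U' :=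
  ⟨h', fun a ha b hb ha' hb' => h (hU.2 a ha b hb (fun x => ha' (h x)) fun x => hb' (h x))⟩

variable [Finite G]

namespace IsFour

variable {X : Set G} {F : Subgroup G}

theorem exists_not_mem_zpowers (hF : IsFour X F) {a : G} (ha : orderOf a = 2) :
    ∃ b ∈ F, b ∉ zpowers a := by
  by_contra hc
  push Not at hc
  have := card_dvd_of_le (H := F) (K := zpowers a) hc
  rw [hF.card, Nat.card_zpowers, ha] at this
  exact absurd (Nat.le_of_dvd (by norm_num) this) (by norm_num)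

theorem exists_ne_one (hF : IsFour X F) : ∃ a ∈ F, a ≠ 1 :=
  (Subgroup.ne_bot_iff_exists_ne_one.1 fun h => by
    have := hF.card
    rw [h, card_bot] at this
    omega).elim fun a ha => ⟨a.1, a.2, fun e => ha (Subtype.ext e)⟩

theorem sq_eq_one (hF : IsFour X F) (hX : ∀ x ∈ X, orderOf x = 2) {a : G} (ha : a ∈ F) : a ^ 2 = 1 := by
  by_cases h : a = 1
  · rw [h, one_pow]
  · rw [← hX a (hF.mem a ha h)]
    exact pow_orderOf_eq_one a

theorem comm (hF : IsFour X F) (hX : ∀ x ∈ X, orderOf x = 2) {a b : G} (ha : a ∈ F) (hb : b ∈ F) :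
    a * b = b * a := by
  have h1 : a⁻¹ = a := inv_eq_of_mul_eq_one_right (by rw [← pow_two]; exact hF.sq_eq_one hX ha)
  have h2 : b⁻¹ = b := inv_eq_of_mul_eq_one_right (by rw [← pow_two]; exact hF.sq_eq_one hX hb)
  have h3 : (a * b)⁻¹ = a * b :=
    inv_eq_of_mul_eq_one_right (by rw [← pow_two]; exact hF.sq_eq_one hX (mul_mem ha hb))
  rw [mul_inv_rev, h1, h2] at h3
  exact h3.symm

/-- A hyperplane meets a four-group. -/
theorem exists_mem_hyp (hF : IsFour X F) (hX : ∀ x ∈ X, orderOf x = 2) {E U : Subgroup G} (hFE : F ≤ E)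
    (hU : IsHyp E U) : ∃ p ∈ F, p ∈ U ∧ p ≠ 1 := by
  obtain ⟨a, ha, ha1⟩ := hF.exists_ne_one
  have hao := hX a (hF.mem a ha ha1)
  obtain ⟨b, hb, hbz⟩ := hF.exists_not_mem_zpowers hao
  by_cases h1 : a ∈ U
  · exact ⟨a, ha, h1, ha1⟩
  by_cases h2 : b ∈ U
  · exact ⟨b, hb, h2, fun e => hbz (e ▸ one_mem _)⟩
  refine ⟨a * b, mul_mem ha hb, hU.2 a (hFE ha) b (hFE hb) h1 h2, fun e => hbz ?_⟩
  rw [eq_inv_of_mul_eq_one_right e]
  exact inv_mem (mem_zpowers a)

theorem mem_centralizer_of_two (hF : IsFour X F) (hX : ∀ x ∈ X, orderOf x = 2) {a b c : G} (ha : a ∈ F)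
    (ha1 : a ≠ 1) (hb : b ∈ F) (hba : b ∉ zpowers a) (hca : c * a = a * c) (hcb : c * b = b * c) :
    c ∈ centralizer (F : Set G) := by
  set K := F ⊓ centralizer ({c} : Set G) with hK
  have haK : a ∈ K := ⟨ha, mem_centralizer_singleton_iff.2 hca.symm⟩
  have hbK : b ∈ K := ⟨hb, mem_centralizer_singleton_iff.2 hcb.symm⟩
  have hz : zpowers a ≤ K := zpowers_le.2 haK
  have hcard : Nat.card (zpowers a) = 2 := by rw [Nat.card_zpowers]; exact hX a (hF.mem a ha ha1)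
  have hd : Nat.card K ∣ 2 ^ 2 := by
    have := card_dvd_of_le (inf_le_left : K ≤ F)
    rw [hF.card] at this
    norm_num; exact this
  obtain ⟨n, hn, hn'⟩ := (Nat.dvd_prime_pow Nat.prime_two).1 hd
  have hne : ¬ Nat.card K ≤ 2 := fun h => hba (eq_of_le_of_card_ge hz (hcard.symm ▸ h) ▸ hbK)
  have hn2 : n = 2 := by
    interval_cases n
    · rw [hn'] at hne; norm_num at hne
    · rw [hn'] at hne; norm_num at hne
    · rfl
  have heq : K = F := eq_of_le_of_card_ge inf_le_left (by rw [hn', hn2, hF.card]; norm_num)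
  exact mem_centralizer_iff.2 fun x hx =>
    mem_centralizer_singleton_iff.1 (heq.ge hx : x ∈ K).2

end IsFour

namespace Quad

variable {X₁ X₂ : Set G} {F₁ F₂ : Subgroup G} (q : Quad X₁ X₂ F₁ F₂)
include q

theorem le_normalizer_left : F₂ ≤ normalizer (F₁ : Set G) := fun _ hb =>
  centralizer_le_normalizer _ (mem_centralizer_iff.2 fun a ha => q.comm a ha _ hb)

theorem exists_mul {x : G} (hx : x ∈ F₁ ⊔ F₂) : ∃ a ∈ F₁, ∃ b ∈ F₂, x = a * b :=
  Solvable.exists_mul_of_mem_sup q.le_normalizer_left hx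

theorem elem : IsElementaryAbelian 2 (F₁ ⊔ F₂) := by
  refine PGroup.isElementaryAbelian_mk ?_ ?_
  · intro x hx y hy
    obtain ⟨a, ha, b, hb, rfl⟩ := q.exists_mul hx
    obtain ⟨c, hc, e, he, rfl⟩ := q.exists_mul hy
    calc a * b * (c * e) = a * (b * c) * e := by group
      _ = a * (c * b) * e := by rw [q.comm c hc b hb]
      _ = (a * c) * (b * e) := by group
      _ = (c * a) * (e * b) := by rw [q.left.comm q.set.inv₁ ha hc, q.right.comm q.set.inv₂ hb he]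
      _ = c * (a * e) * b := by group
      _ = c * (e * a) * b := by rw [q.comm a ha e he]
      _ = c * e * (a * b) := by group
  · intro x hx
    obtain ⟨a, ha, b, hb, rfl⟩ := q.exists_mul hx
    rw [Commute.mul_pow (q.comm a ha b hb), q.left.sq_eq_one q.set.inv₁ ha, q.right.sq_eq_one q.set.inv₂ hb,
      one_mul]

theorem inf_eq_bot : F₁ ⊓ F₂ = ⊥ := by
  rw [eq_bot_iff]
  intro x hx
  rw [mem_bot]
  by_contra h
  exact q.set.disj x (q.left.mem x hx.1 h) (q.right.mem x hx.2 h)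

theorem card : Nat.card ↥(F₁ ⊔ F₂) = 16 := by
  rw [Solvable.card_sup_of_disjoint q.le_normalizer_left q.inf_eq_bot, q.left.card, q.right.card]

theorem commute {x y : G} (hx : x ∈ F₁ ⊔ F₂) (hy : y ∈ F₁ ⊔ F₂) : x * y = y * x := comm_of_elem q.elem hx hy

theorem le_centralizer {W : Subgroup G} (hW : W ≤ F₁ ⊔ F₂) : F₁ ⊔ F₂ ≤ centralizer (W : Set G) :=
  le_centralizer_self q.elem hW

/-- Membership in the family from one pair. -/
theorem mem_M_of_pair {U : Subgroup G} (hU : U ≤ F₁ ⊔ F₂) {i j c : G} (hi : i ∈ F₁) (hi1 : i ≠ 1)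
    (hj : j ∈ F₂) (hj1 : j ≠ 1) (hci : c ∈ Q i) (hcj : c ∈ Q j) (hc : c ∈ centralizer (U : Set G)) :
    c ∈ M F₁ F₂ U :=
  mem_M.2 ⟨hc, fun p hpU _ hp1 => q.set.mem_Q_of_pair hp1 (q.left.mem i hi hi1) (q.right.mem j hj hj1)
    (q.commute (mem_sup_left hi) (hU hpU)) (q.commute (mem_sup_right hj) (hU hpU)) hci hcj
    (mem_centralizer_iff.1 hc p hpU).symm⟩

omit q in
theorem centralizer_le_normalizer_M (F₁ F₂ W : Subgroup G) :
    centralizer (W : Set G) ≤ normalizer (M F₁ F₂ W : Set G) := by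
  intro g hg
  refine Solvable.mem_normalizer_of_conj_mem fun x hx => ?_
  rw [mem_M] at hx ⊢
  exact ⟨mul_mem (mul_mem hg hx.1) (inv_mem hg), fun p hpW hp hp1 =>
    (mem_normalizer_iff.1 (centralizer_le_normalizer_Q p
      (mem_centralizer_singleton_iff.2 (mem_centralizer_iff.1 hg p hpW).symm)) x).1 (hx.2 p hpW hp hp1)⟩

omit q in
theorem M_mono {W U : Subgroup G} (h : W ≤ U) : M F₁ F₂ U ≤ M F₁ F₂ W := fun x hx => by
  rw [mem_M] at hx ⊢
  exact ⟨centralizer_le h hx.1, fun p hp => hx.2 p (h hp)⟩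

omit q in
theorem M_le_centralizer (W : Subgroup G) : M F₁ F₂ W ≤ centralizer (W : Set G) := inf_le_left

theorem pure_left {R V : Subgroup G} (hR : IsHyp (F₁ ⊔ F₂) R) (hV : IsHyp (F₁ ⊔ F₂) V)
    (hRE : R ≠ F₁ ⊔ F₂) (hF : F₂ ≤ R) {c : G} (hp : IsPure (F₁ ⊔ F₂) R c)
    (hc : c ∈ M F₁ F₂ (R ⊓ V)) : c ∈ M F₁ F₂ R := by
  obtain ⟨b, hb, hbR⟩ : ∃ b ∈ F₁, b ∉ R := by
    by_contra h
    push Not at h
    exact hRE (le_antisymm hR.1 (sup_le h hF))
  obtain ⟨i, hi, hiR, hi1⟩ := q.left.exists_mem_hyp q.set.inv₁ le_sup_left hR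
  obtain ⟨j, hj, hjV, hj1⟩ := q.right.exists_mem_hyp q.set.inv₂ le_sup_right hV
  have hcj : c ∈ Q j := (mem_M.1 hc).2 j ⟨hF hj, hjV⟩ (Or.inr hj) hj1
  have hci : c ∈ Q i := q.set.mem_Q_of_inverted hi1 (q.right.mem j hj hj1) (q.comm i hi j hj).symm
    (q.left.mem b hb fun e => hbR (e ▸ one_mem R)) (q.left.comm q.set.inv₁ hb hi) hcj
    (mem_centralizer_iff.1 hp.1 i hiR).symm (hp.2 b (mem_sup_left hb) hbR)
  exact q.mem_M_of_pair hR.1 hi hi1 hj hj1 hci hcj hp.1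

theorem mem_M_of_mixed {R : Subgroup G} (hR : IsHyp (F₁ ⊔ F₂) R) {b b' c : G} (hb : b ∈ F₁) (hbR : b ∉ R)
    (hb' : b' ∈ F₂) (hbR' : b' ∉ R) (hp : IsPure (F₁ ⊔ F₂) R c) (hodd : Odd (orderOf c)) :
    c ∈ M F₁ F₂ R := by
  refine mem_M.2 ⟨hp.1, fun p hpR _ hp1 => ?_⟩
  exact q.set.mem_Q_of_mixed hp1 (q.left.mem b hb fun e => hbR (e ▸ one_mem R))
    (q.right.mem b' hb' fun e => hbR' (e ▸ one_mem R)) (q.commute (mem_sup_left hb) (hR.1 hpR))
    (q.commute (mem_sup_right hb') (hR.1 hpR)) (mem_centralizer_iff.1 hp.1 p hpR).symm hodd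
    (hp.2 b (mem_sup_left hb) hbR) (hp.2 b' (mem_sup_right hb') hbR')

theorem genData {X : Subgroup G} (hX : F₁ ⊔ F₂ ≤ normalizer (X : Set G)) (hodd : Odd (Nat.card X))
    (hgen : X ≤ ⨆ U : {U : Subgroup G // IsHyp (F₁ ⊔ F₂) U}, X ⊓ M F₁ F₂ U.1) :
    GenData (F₁ ⊔ F₂) X (M F₁ F₂) where
  elem := q.elem
  norm := hX
  odd := hodd
  solv := Cfsg.Agent.S0205.result hodd
  le_cent W _ := M_le_centralizer W
  cent_le W _ := centralizer_le_normalizer_M F₁ F₂ W
  mono _ _ h _ := M_mono h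
  gen := hgen
  zero U hU := by
    intro c hc
    obtain ⟨i, hi, hiU, hi1⟩ := q.left.exists_mem_hyp q.set.inv₁ le_sup_left hU
    obtain ⟨j, hj, hjU, hj1⟩ := q.right.exists_mem_hyp q.set.inv₂ le_sup_right hU
    exact q.mem_M_of_pair le_rfl hi hi1 hj hj1 ((mem_M.1 hc.1.2).2 i hiU (Or.inl hi) hi1)
      ((mem_M.1 hc.1.2).2 j hjU (Or.inr hj) hj1) hc.2
  pure R V hR hV hRE _ _ c hcX hp hc := by
    by_cases hF2 : F₂ ≤ R
    · exact q.pure_left hR hV hRE hF2 hp hc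
    by_cases hF1 : F₁ ≤ R
    · rw [← M_swap] at hc ⊢
      exact q.swap.pure_left (sup_comm F₁ F₂ ▸ hR) (sup_comm F₁ F₂ ▸ hV) (sup_comm F₁ F₂ ▸ hRE) hF1
        (sup_comm F₁ F₂ ▸ hp) hc
    obtain ⟨b, hb, hbR⟩ := Set.not_subset.1 hF1
    obtain ⟨b', hb', hbR'⟩ := Set.not_subset.1 hF2
    exact q.mem_M_of_mixed hR hb hbR hb' hbR' hp (hodd.of_dvd_nat (Subgroup.orderOf_dvd_natCard _ hcX))

theorem M_le_Q {U : Subgroup G} (hU : IsHyp (F₁ ⊔ F₂) U) {e : G} (he : e ∈ U) (he1 : e ≠ 1) :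
    M F₁ F₂ U ≤ Q e := by
  intro c hc
  obtain ⟨i, hi, hiU, hi1⟩ := q.left.exists_mem_hyp q.set.inv₁ le_sup_left hU
  obtain ⟨j, hj, hjU, hj1⟩ := q.right.exists_mem_hyp q.set.inv₂ le_sup_right hU
  exact q.set.mem_Q_of_pair he1 (q.left.mem i hi hi1) (q.right.mem j hj hj1)
    (q.commute (mem_sup_left hi) (hU.1 he)) (q.commute (mem_sup_right hj) (hU.1 he))
    ((mem_M.1 hc).2 i hiU (Or.inl hi) hi1) ((mem_M.1 hc).2 j hjU (Or.inr hj) hj1)
    (mem_centralizer_iff.1 (M_le_centralizer U hc) e he).symm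

theorem theta_le_Q {e : G} (he1 : e ≠ 1) : theta F₁ F₂ e ≤ Q e :=
  iSup_le fun U => q.M_le_Q U.2.1 U.2.2 he1

theorem odd_theta {e : G} (he1 : e ≠ 1) : Odd (Nat.card (theta F₁ F₂ e)) :=
  (odd_Q e).of_dvd_nat (card_dvd_of_le (q.theta_le_Q he1))

theorem le_normalizer_theta (e : G) : F₁ ⊔ F₂ ≤ normalizer (theta F₁ F₂ e : Set G) := by
  intro g hg
  refine Solvable.mem_normalizer_of_conj_mem ?_
  suffices theta F₁ F₂ e ≤ (theta F₁ F₂ e).comap (MulAut.conj g).toMonoidHom from this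
  refine iSup_le fun U => fun x hx => ?_
  exact le_iSup (fun U : {U : Subgroup G // IsHyp (F₁ ⊔ F₂) U ∧ e ∈ U} => M F₁ F₂ U.1) U
    ((mem_normalizer_iff.1 (centralizer_le_normalizer_M F₁ F₂ U.1 (q.le_centralizer U.2.1.1 hg)) x).1 hx)

theorem theta_inf_le {e : G} (he1 : e ≠ 1) {U : Subgroup G}
    (hU : IsHyp (F₁ ⊔ F₂) U) : theta F₁ F₂ e ⊓ centralizer (U : Set G) ≤ M F₁ F₂ U := by
  refine GenData.inf_centralizer_le_of_data
    (q.genData (q.le_normalizer_theta e) (q.odd_theta he1) ?_) U hU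
  refine iSup_le fun V => le_iSup_of_le (f := fun U : {U : Subgroup G // IsHyp (F₁ ⊔ F₂) U} =>
    theta F₁ F₂ e ⊓ M F₁ F₂ U.1) ⟨V.1, V.2.1⟩ ?_
  exact le_inf (le_iSup (fun U : {U : Subgroup G // IsHyp (F₁ ⊔ F₂) U ∧ e ∈ U} => M F₁ F₂ U.1) V) le_rfl

omit q in
theorem M_le_theta {U : Subgroup G} (hU : IsHyp (F₁ ⊔ F₂) U) {e : G} (he : e ∈ U) :
    M F₁ F₂ U ≤ theta F₁ F₂ e :=
  le_iSup (fun U : {U : Subgroup G // IsHyp (F₁ ⊔ F₂) U ∧ e ∈ U} => M F₁ F₂ U.1) ⟨U, hU, he⟩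

theorem theta_le_centralizer (e : G) : theta F₁ F₂ e ≤ centralizer ({e} : Set G) :=
  iSup_le fun U => (M_le_centralizer U.1).trans fun _ hc =>
    mem_centralizer_singleton_iff.2 (mem_centralizer_iff.1 hc e U.2.2).symm

theorem balance {a : G} (ha : a ∈ F₁ ⊔ F₂) (ha1 : a ≠ 1) {b : G} (hb : b ∈ F₁ ⊔ F₂) :
    theta F₁ F₂ a ⊓ centralizer ({b} : Set G) ≤ theta F₁ F₂ b := by
  set Y := theta F₁ F₂ a ⊓ centralizer ({b} : Set G) with hY
  refine le_of_hyp q.elem ((q.odd_theta ha1).of_dvd_nat (card_dvd_of_le inf_le_left))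
    (Solvable.le_normalizer_inf (q.le_normalizer_theta a) ?_) fun U hU => ?_
  · exact fun g hg => le_normalizer (mem_centralizer_singleton_iff.2 (q.commute hg hb))
  set U' := U ⊔ zpowers a ⊔ zpowers b with hU'
  have hle : U' ≤ F₁ ⊔ F₂ := sup_le (sup_le hU.1 (zpowers_le.2 ha)) (zpowers_le.2 hb)
  have hH := hU.of_le (le_sup_left.trans le_sup_left) hle
  refine le_trans ?_ ((q.theta_inf_le ha1 hH).trans (M_le_theta hH (mem_sup_right (mem_zpowers b))))
  intro c hc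
  refine ⟨hc.1.1, ?_⟩
  have h2 : U' ≤ centralizer ({c} : Set G) := by
    refine sup_le (sup_le (fun u hu => mem_centralizer_singleton_iff.2 (mem_centralizer_iff.1 hc.2 u hu))
      (zpowers_le.2 (mem_centralizer_singleton_iff.2 ?_)))
      (zpowers_le.2 (mem_centralizer_singleton_iff.2 ?_))
    · exact (mem_centralizer_singleton_iff.1 (q.theta_le_centralizer a hc.1.1)).symm
    · exact (mem_centralizer_singleton_iff.1 hc.1.2).symm
  exact mem_centralizer_iff.2 fun u hu => mem_centralizer_singleton_iff.1 (h2 hu)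

theorem completion_spec : ¬ 2 ∣ Nat.card (completion F₁ F₂) ∧
    ∀ a ∈ F₁ ⊔ F₂, a ≠ 1 → completion F₁ F₂ ⊓ centralizer ({a} : Set G) = theta F₁ F₂ a := by
  haveI : Fact (Nat.Prime 2) := ⟨Nat.prime_two⟩
  refine Signalizer.solvableSignalizerTheorem 2 G (F₁ ⊔ F₂) (fun a ha b hb => q.commute ha hb) q.elem.2
    (by rw [q.card]; norm_num) (theta F₁ F₂) (fun a _ _ => q.theta_le_centralizer a) (fun a _ ha1 => ?_)
    (fun a _ _ b hb x hx => (mem_normalizer_iff.1 (q.le_normalizer_theta a hb) x).1 hx)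
    (fun a _ ha1 => Cfsg.Agent.S0205.result (q.odd_theta ha1))
    (fun a ha ha1 b hb _ => q.balance ha ha1 hb)
  rw [← even_iff_two_dvd, Nat.not_even_iff_odd]
  exact q.odd_theta ha1

theorem odd_completion : Odd (Nat.card (completion F₁ F₂)) := by
  rw [← Nat.not_even_iff_odd, even_iff_two_dvd]
  exact q.completion_spec.1

theorem le_normalizer_completion : F₁ ⊔ F₂ ≤ normalizer (completion F₁ F₂ : Set G) := by
  intro g hg
  refine Solvable.mem_normalizer_of_conj_mem ?_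
  suffices completion F₁ F₂ ≤ (completion F₁ F₂).comap (MulAut.conj g).toMonoidHom from this
  exact iSup_le fun e => fun x hx => le_iSup (fun e : {e : G // e ∈ F₁ ⊔ F₂ ∧ e ≠ 1} => theta F₁ F₂ e.1) e
    ((mem_normalizer_iff.1 (q.le_normalizer_theta e.1 hg) x).1 hx)

theorem M_le_completion {U : Subgroup G} (hU : IsHyp (F₁ ⊔ F₂) U) : M F₁ F₂ U ≤ completion F₁ F₂ := by
  obtain ⟨i, hi, hiU, hi1⟩ := q.left.exists_mem_hyp q.set.inv₁ le_sup_left hU
  exact (M_le_theta hU hiU).trans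
    (le_iSup (fun e : {e : G // e ∈ F₁ ⊔ F₂ ∧ e ≠ 1} => theta F₁ F₂ e.1) ⟨i, mem_sup_left hi, hi1⟩)

/-- The value at a member of `F₁` depends only on it and on one member of `F₂`. -/
theorem theta_eq {i j : G} (hi : i ∈ F₁) (hi1 : i ≠ 1) (hj : j ∈ F₂) (hj1 : j ≠ 1) :
    theta F₁ F₂ i = ⁅Q i, zpowers j⁆ ⊔ (Q i ⊓ Q j) := by
  have hE1 : i ∈ F₁ ⊔ F₂ := mem_sup_left hi
  have hE2 : j ∈ F₁ ⊔ F₂ := mem_sup_right hj
  have hQn : ∀ {p : G}, p ∈ F₁ ⊔ F₂ → F₁ ⊔ F₂ ≤ normalizer (Q p : Set G) := fun {p} hp g hg =>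
    centralizer_le_normalizer_Q p (mem_centralizer_singleton_iff.2 (q.commute hg hp))
  have hjn : j ∈ normalizer (theta F₁ F₂ i : Set G) := q.le_normalizer_theta i hE2
  have hjo : orderOf j = 2 := q.set.inv₂ j (q.right.mem j hj hj1)
  refine le_antisymm ?_ (sup_le ?_ ?_)
  · intro x hx
    obtain ⟨y, hy, c, hc, rfl⟩ := Signalizer.exists_commutator_mul_fixed hjn (X := theta F₁ F₂ i) (by
      rw [hjo]; exact Nat.coprime_two_left.2 (q.odd_theta hi1)) hx
    refine mul_mem (mem_sup_left (Subgroup.commutator_mono (q.theta_le_Q hi1) le_rfl hy)) (mem_sup_right ?_)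
    exact ⟨q.theta_le_Q hi1 hc.1, q.theta_le_Q hj1 (q.balance hE1 hi1 hE2 hc)⟩
  · -- commutators
    let S : Subgroup G :=
      { carrier := {x | x ∈ normalizer (theta F₁ F₂ i : Set G) ∧ ⁅x, j⁆ ∈ theta F₁ F₂ i}
        one_mem' := ⟨one_mem _, by rw [commutatorElement_one_left]; exact one_mem _⟩
        mul_mem' := fun {a b} ha hb => ⟨mul_mem ha.1 hb.1, by
          rw [Signalizer.commutator_mul_left]
          exact mul_mem ((mem_normalizer_iff.1 ha.1 _).1 hb.2) ha.2⟩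
        inv_mem' := fun {a} ha => ⟨inv_mem ha.1, by
          rw [show ⁅a⁻¹, j⁆ = a⁻¹ * ⁅a, j⁆⁻¹ * a by simp only [commutatorElement_def]; group]
          exact (mem_normalizer_iff''.1 ha.1 _).1 (inv_mem ha.2)⟩ }
    have hQS : Q i ≤ S := by
      refine le_of_hyp q.elem (odd_Q i) (hQn hE1) fun U hU x hx => ?_
      set U' := U ⊔ zpowers i with hU'
      have hH : IsHyp (F₁ ⊔ F₂) U' := hU.of_le le_sup_left (sup_le hU.1 (zpowers_le.2 hE1))
      have hiU : i ∈ U' := mem_sup_right (mem_zpowers i)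
      have hxU : x ∈ centralizer (U' : Set G) := by
        have h2 : U' ≤ centralizer ({x} : Set G) := sup_le
          (fun u hu => mem_centralizer_singleton_iff.2 (mem_centralizer_iff.1 hx.2 u hu))
          (zpowers_le.2 (mem_centralizer_singleton_iff.2 (Q_comm hx.1).symm))
        exact mem_centralizer_iff.2 fun u hu => mem_centralizer_singleton_iff.1 (h2 hu)
      obtain ⟨l, hl, hlU, hl1⟩ := q.right.exists_mem_hyp q.set.inv₂ le_sup_right hH
      by_cases hF2 : F₂ ≤ U'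
      · refine ⟨Solvable.mem_normalizer_of_conj_mem ?_, ?_⟩
        · have key : ∀ V : {V : Subgroup G // IsHyp (F₁ ⊔ F₂) V ∧ i ∈ V},
              M F₁ F₂ V.1 ≤ (theta F₁ F₂ i).comap (MulAut.conj x).toMonoidHom := by
            intro V y hy
            obtain ⟨m, hm, hmV, hm1⟩ := q.right.exists_mem_hyp q.set.inv₂ le_sup_right V.2.1
            show x * y * x⁻¹ ∈ theta F₁ F₂ i
            have hxm : x ∈ centralizer ({m} : Set G) :=
              mem_centralizer_singleton_iff.2 (mem_centralizer_iff.1 hxU m (hF2 hm)).symm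
            have hy' : x * y * x⁻¹ ∈ Q i ⊓ Q m :=
              ⟨(Q i).mul_mem ((Q i).mul_mem hx.1 ((mem_M.1 hy).2 i V.2.2 (Or.inl hi) hi1)) ((Q i).inv_mem hx.1),
                (mem_normalizer_iff.1 (centralizer_le_normalizer_Q m hxm) y).1
                  ((mem_M.1 hy).2 m hmV (Or.inr hm) hm1)⟩
            refine le_of_hyp q.elem ((odd_Q i).of_dvd_nat (card_dvd_of_le inf_le_left))
              (Solvable.le_normalizer_inf (hQn hE1) (hQn (mem_sup_right hm))) (fun W hW z hz => ?_) hy'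
            have hW' : IsHyp (F₁ ⊔ F₂) (W ⊔ zpowers i) :=
              hW.of_le le_sup_left (sup_le hW.1 (zpowers_le.2 hE1))
            refine M_le_theta hW' (mem_sup_right (mem_zpowers i))
              (q.mem_M_of_pair hW'.1 hi hi1 hm hm1 hz.1.1 hz.1.2 ?_)
            have h2 : W ⊔ zpowers i ≤ centralizer ({z} : Set G) := sup_le
              (fun u hu => mem_centralizer_singleton_iff.2 (mem_centralizer_iff.1 hz.2 u hu))
              (zpowers_le.2 (mem_centralizer_singleton_iff.2 (Q_comm hz.1.1).symm))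
            exact mem_centralizer_iff.2 fun u hu => mem_centralizer_singleton_iff.1 (h2 hu)
          exact fun y hy => (iSup_le key : theta F₁ F₂ i ≤ _) hy
        · rw [commutatorElement_eq_one_iff_mul_comm.2 (mem_centralizer_iff.1 hxU j (hF2 hj)).symm]
          exact one_mem _
      · obtain ⟨b', hb', hbU'⟩ := Set.not_subset.1 hF2
        refine inf_centralizer_le q.elem (odd_Q i) (hQn hE1) hH (fun c hc hp => ?_) (fun c hc => ?_) ⟨hx.1, hxU⟩
        · have hcl : c ∈ Q l := q.set.swap.mem_Q_of_inverted hl1 (q.left.mem i hi hi1) (q.comm i hi l hl)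
            (q.right.mem b' hb' fun e => hbU' (e ▸ one_mem _)) (q.right.comm q.set.inv₂ hb' hl) hc
            (mem_centralizer_iff.1 hp.1 l hlU).symm (hp.2 b' (mem_sup_right hb') hbU')
          have hcθ : c ∈ theta F₁ F₂ i :=
            M_le_theta hH hiU (q.mem_M_of_pair hH.1 hi hi1 hl hl1 hc hcl hp.1)
          refine ⟨le_normalizer hcθ, ?_⟩
          rw [commutatorElement_def, mul_assoc, mul_assoc, ← mul_assoc j]
          exact mul_mem hcθ ((mem_normalizer_iff.1 hjn _).1 (inv_mem hcθ))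
        · refine ⟨Solvable.mem_normalizer_of_conj_mem ?_, ?_⟩
          · suffices theta F₁ F₂ i ≤ (theta F₁ F₂ i).comap (MulAut.conj c).toMonoidHom from this
            exact iSup_le fun V => fun y hy => le_iSup
              (fun U : {U : Subgroup G // IsHyp (F₁ ⊔ F₂) U ∧ i ∈ U} => M F₁ F₂ U.1) V
              ((mem_normalizer_iff.1 (centralizer_le_normalizer_M F₁ F₂ V.1 (centralizer_le V.2.1.1 hc.2)) y).1 hy)
          · rw [commutatorElement_eq_one_iff_mul_comm.2 (mem_centralizer_iff.1 hc.2 j hE2).symm]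
            exact one_mem _
    exact Signalizer.commutator_zpowers_le hjn fun x hx => (hQS hx).2
  · refine le_of_hyp q.elem ((odd_Q i).of_dvd_nat (card_dvd_of_le inf_le_left))
      (Solvable.le_normalizer_inf (hQn hE1) (hQn hE2)) fun W hW z hz => ?_
    have hW' : IsHyp (F₁ ⊔ F₂) (W ⊔ zpowers i) := hW.of_le le_sup_left (sup_le hW.1 (zpowers_le.2 hE1))
    refine M_le_theta hW' (mem_sup_right (mem_zpowers i))
      (q.mem_M_of_pair hW'.1 hi hi1 hj hj1 hz.1.1 hz.1.2 ?_)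
    have h2 : W ⊔ zpowers i ≤ centralizer ({z} : Set G) := sup_le
      (fun u hu => mem_centralizer_singleton_iff.2 (mem_centralizer_iff.1 hz.2 u hu))
      (zpowers_le.2 (mem_centralizer_singleton_iff.2 (Q_comm hz.1.1).symm))
    exact mem_centralizer_iff.2 fun u hu => mem_centralizer_singleton_iff.1 (h2 hu)

/-- The completion depends only on `F₁` and one member of `F₂`. -/
theorem completion_eq {j : G} (hj : j ∈ F₂) (hj1 : j ≠ 1) : completion F₁ F₂ = halfCompletion F₁ j := by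
  apply le_antisymm
  · have hel : IsElementaryAbelian 2 F₁ :=
      PGroup.isElementaryAbelian_mk (fun a ha b hb => q.left.comm q.set.inv₁ ha hb)
        fun a ha => q.left.sq_eq_one q.set.inv₁ ha
    refine le_of_hyp hel q.odd_completion (le_sup_left.trans q.le_normalizer_completion) fun U hU => ?_
    obtain ⟨i, hi, hiU, hi1⟩ := q.left.exists_mem_hyp q.set.inv₁ le_rfl hU
    refine le_trans (le_inf inf_le_left (inf_le_right.trans fun c hc =>
      mem_centralizer_singleton_iff.2 (mem_centralizer_iff.1 hc i hiU).symm)) ?_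
    rw [q.completion_spec.2 i (mem_sup_left hi) hi1, q.theta_eq hi hi1 hj hj1]
    exact le_iSup (fun i : {i : G // i ∈ F₁ ∧ i ≠ 1} => ⁅Q i.1, zpowers j⁆ ⊔ (Q i.1 ⊓ Q j)) ⟨i, hi, hi1⟩
  · refine iSup_le fun i => ?_
    rw [← q.theta_eq i.2.1 i.2.2 hj hj1]
    exact le_iSup (fun e : {e : G // e ∈ F₁ ⊔ F₂ ∧ e ≠ 1} => theta F₁ F₂ e.1) ⟨i.1, mem_sup_left i.2.1, i.2.2⟩

end Quad

end CfsgLib.Goldschmidt
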