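import Cfsg.Agent.Lib.Signalizer.Ambient
import Cfsg.Agent.Lib.Cores.CoprimeGen
import Cfsg.Agent.Lib.Techniques.CoprimeGenCB

/-!
Coprime generation with prescribed fixed points.

An elementary abelian 2-group `E` normalizes a solvable group `X` of odd order, generated by its
intersections with subgroups `M U ≤ C(U)`, `U` of index at most 2 in `E`.  If the family `M` is
closed under the commutation rules of `GenData`, then `X ⊓ C(U) ≤ M U` for all these `U`.
-/

set_option autoImplicit false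
set_option linter.unusedSectionVars false
set_option linter.style.haveILetI false

namespace CfsgLib.Goldschmidt

open Subgroup Cfsg
open scoped commutatorElement

variable {G : Type*} [Group G]

/-- `U` is a subgroup of index at most 2 of `E`. -/
def IsHyp (E U : Subgroup G) : Prop :=
  U ≤ E ∧ ∀ a ∈ E, ∀ b ∈ E, a ∉ U → b ∉ U → a * b ∈ U

/-- `c` centralizes `U` and is inverted by the elements of `E` outside `U`. -/
def IsPure (E U : Subgroup G) (c : G) : Prop :=
  c ∈ centralizer (U : Set G) ∧ ∀ u ∈ E, u ∉ U → u * c * u⁻¹ = c⁻¹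

theorem isHyp_self (E : Subgroup G) : IsHyp E E := ⟨le_rfl, fun _ ha _ hb _ _ => mul_mem ha hb⟩

/-- The hypotheses of the generation lemma. -/
structure GenData (E X : Subgroup G) (M : Subgroup G → Subgroup G) : Prop where
  elem : IsElementaryAbelian 2 E
  norm : E ≤ normalizer (X : Set G)
  odd : Odd (Nat.card X)
  solv : Group.IsSolvable X
  le_cent : ∀ W, W ≤ E → M W ≤ centralizer (W : Set G)
  cent_le : ∀ W, W ≤ E → centralizer (W : Set G) ≤ normalizer (M W : Set G)
  mono : ∀ W U, W ≤ U → U ≤ E → M U ≤ M W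
  zero : ∀ U, IsHyp E U → X ⊓ M U ⊓ centralizer (E : Set G) ≤ M E
  pure : ∀ R V, IsHyp E R → IsHyp E V → R ≠ E → V ≠ E → R ≠ V →
    ∀ c ∈ X, IsPure E R c → c ∈ M (R ⊓ V) → c ∈ M R
  gen : X ≤ ⨆ U : {U : Subgroup G // IsHyp E U}, X ⊓ M U.1

section Basic

variable {E : Subgroup G}

theorem inv_eq_self_of_elem (hE : IsElementaryAbelian 2 E) {u : G} (hu : u ∈ E) : u⁻¹ = u := by
  have h := hE.2 u hu
  rw [pow_two] at h
  exact inv_eq_of_mul_eq_one_right h

theorem comm_of_elem (hE : IsElementaryAbelian 2 E) {u v : G} (hu : u ∈ E) (hv : v ∈ E) :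
    u * v = v * u := PGroup.elemAb_comm hE hu hv

theorem le_centralizer_self (hE : IsElementaryAbelian 2 E) {W : Subgroup G} (hW : W ≤ E) :
    E ≤ centralizer (W : Set G) := fun _ ha => mem_centralizer_iff.2 fun _ hb => comm_of_elem hE (hW hb) ha

theorem exists_not_mem {U : Subgroup G} (hU : IsHyp E U) (h : U ≠ E) : ∃ u ∈ E, u ∉ U := by
  by_contra hc
  push Not at hc
  exact h (le_antisymm hU.1 hc)

theorem IsHyp.mul_mem_of {U : Subgroup G} (hE : IsElementaryAbelian 2 E) (hU : IsHyp E U) {u e : G}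
    (hu : u ∈ E) (he : e ∈ E) (huU : u ∉ U) (heU : e ∉ U) : u⁻¹ * e ∈ U := by
  rw [inv_eq_self_of_elem hE hu]
  exact hU.2 u hu e he huU heU

theorem isHyp_of_relIndex_le {U : Subgroup G} [Finite G] (hU : U ≤ E) (h : U.relIndex E ≤ 2) :
    IsHyp E U := by
  refine ⟨hU, fun a ha b hb haU hbU => ?_⟩
  rcases Nat.lt_or_ge (U.relIndex E) 2 with h2 | h2
  · have h1 : U.relIndex E = 1 := by
      have h0 : U.relIndex E ≠ 0 := Subgroup.index_ne_zero_of_finite
      omega
    exact absurd (relIndex_eq_one.1 h1 ha) haU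
  · have h2' : (U.subgroupOf E).index = 2 := le_antisymm h h2
    have := (mul_mem_iff_of_index_two h2' (a := (⟨a, ha⟩ : E)) (b := ⟨b, hb⟩)).2
      (iff_of_false (by simpa [mem_subgroupOf] using haU) (by simpa [mem_subgroupOf] using hbU))
    simpa [mem_subgroupOf] using this

theorem isPure_conj (hE : IsElementaryAbelian 2 E) {U : Subgroup G} (hU : IsHyp E U) {c e : G}
    (he : e ∈ E) (hc : IsPure E U c) : IsPure E U (e * c * e⁻¹) := by
  refine ⟨?_, fun u hu huU => ?_⟩
  · have h1 : e ∈ centralizer (U : Set G) := le_centralizer_self hE hU.1 he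
    exact mul_mem (mul_mem h1 hc.1) (inv_mem h1)
  · have h1 : u * (e * c * e⁻¹) * u⁻¹ = e * (u * c * u⁻¹) * e⁻¹ := by
      rw [inv_eq_self_of_elem hE hu, inv_eq_self_of_elem hE he]
      have h2 := comm_of_elem hE hu he
      calc u * (e * c * e) * u = (u * e) * c * (e * u) := by group
        _ = (e * u) * c * (u * e) := by rw [h2]
        _ = e * (u * c * u) * e := by group
    rw [h1, hc.2 u hu huU]
    group

theorem isPure_self {c : G} (hc : c ∈ centralizer (E : Set G)) : IsPure E E c :=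
  ⟨hc, fun _ hu hu' => absurd hu hu'⟩

variable [Finite G]

/-- Fixed points of a hyperplane are generated by pure elements and fixed points of `E`. -/
theorem inf_centralizer_le (hE : IsElementaryAbelian 2 E) {Y : Subgroup G} (hY : Odd (Nat.card Y))
    (hEY : E ≤ normalizer (Y : Set G)) {U : Subgroup G} (hU : IsHyp E U) {S : Subgroup G}
    (h1 : ∀ c ∈ Y, IsPure E U c → c ∈ S) (h2 : Y ⊓ centralizer (E : Set G) ≤ S) :
    Y ⊓ centralizer (U : Set G) ≤ S := by
  by_cases hUE : U = E
  · subst hUE; exact h2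
  obtain ⟨u, hu, huU⟩ := exists_not_mem hU hUE
  intro x hx
  set Y' := Y ⊓ centralizer (U : Set G) with hY'
  have hn : E ≤ normalizer (Y' : Set G) := Solvable.le_normalizer_inf hEY
    ((le_centralizer_self hE hU.1).trans le_normalizer)
  have hou : orderOf u = 2 := orderOf_eq_prime (hE.2 u hu) (fun h => huU (h ▸ one_mem U))
  have hcop : (orderOf u).Coprime (Nat.card Y') := by
    rw [hou, Nat.prime_two.coprime_iff_not_dvd, ← even_iff_two_dvd, Nat.not_even_iff_odd]
    exact hY.of_dvd_nat (card_dvd_of_le inf_le_left)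
  obtain ⟨y, hy, c, hc, rfl⟩ := Signalizer.exists_commutator_mul_fixed (hn hu) hcop hx
  refine mul_mem ?_ (h2 ⟨hc.1.1, ?_⟩)
  · have hle : ⁅Y', zpowers u⁆ ≤ S := by
      refine Subgroup.commutator_le.2 fun g hg v hv => ?_
      obtain ⟨k, rfl⟩ := mem_zpowers_iff.1 hv
      rcases Int.even_or_odd k with ⟨m, rfl⟩ | ⟨m, rfl⟩
      · rw [← two_mul, zpow_mul, zpow_two, ← pow_two, hE.2 u hu, one_zpow, commutatorElement_one_right]
        exact one_mem _
      rw [zpow_add, zpow_mul, zpow_two, ← pow_two, hE.2 u hu, one_zpow, one_mul, zpow_one]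
      refine h1 _ ?_ ⟨?_, fun e he heU => ?_⟩
      · rw [commutatorElement_def, mul_assoc, mul_assoc, ← mul_assoc u g⁻¹ u⁻¹]
        exact mul_mem hg.1 ((mem_normalizer_iff.1 (hEY hu) _).1 (inv_mem hg.1))
      · have h4 : u ∈ centralizer (U : Set G) := le_centralizer_self hE hU.1 hu
        rw [commutatorElement_def]
        exact mul_mem (mul_mem (mul_mem hg.2 h4) (inv_mem hg.2)) (inv_mem h4)
      · have hw : u⁻¹ * e ∈ U := hU.mul_mem_of hE hu he huU heU
        set w := u⁻¹ * e with hwdef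
        have hgw : w * g = g * w := mem_centralizer_iff.1 hg.2 w hw
        have hwu : w * u = u * w := comm_of_elem hE (hU.1 hw) hu
        have huw : w * ⁅g, u⁆ * w⁻¹ = ⁅g, u⁆ := by
          rw [Signalizer.conj_commutator]
          congr 1
          · rw [hgw, mul_assoc, mul_inv_cancel, mul_one]
          · rw [hwu, mul_assoc, mul_inv_cancel, mul_one]
        have he' : e = u * w := by rw [hwdef]; group
        rw [he', show u * w * ⁅g, u⁆ * (u * w)⁻¹ = u * (w * ⁅g, u⁆ * w⁻¹) * u⁻¹ by group, huw,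
          commutatorElement_def, inv_eq_self_of_elem hE hu]
        have huu : u * u = 1 := by rw [← pow_two]; exact hE.2 u hu
        calc u * (g * u * g⁻¹ * u) * u = u * g * u * g⁻¹ * (u * u) := by group
          _ = u * g * u * g⁻¹ := by rw [huu, mul_one]
          _ = (g * u * g⁻¹ * u)⁻¹ := by
              rw [mul_inv_rev, mul_inv_rev, mul_inv_rev, inv_inv, inv_eq_self_of_elem hE hu]
              group
    exact hle hy
  · refine mem_centralizer_iff.2 fun e he => ?_
    have hcu : u * c = c * u := (mem_centralizer_singleton_iff.1 hc.2).symm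
    by_cases heU : e ∈ U
    · exact mem_centralizer_iff.1 hc.1.2 e heU
    · have hw := mem_centralizer_iff.1 hc.1.2 _ (hU.mul_mem_of hE hu he huU heU)
      calc e * c = u * ((u⁻¹ * e) * c) := by group
        _ = u * (c * (u⁻¹ * e)) := by rw [hw]
        _ = (u * c) * (u⁻¹ * e) := by group
        _ = c * e := by rw [hcu]; group

/-- An odd group normalized by `E` is generated by fixed points of its hyperplanes. -/
theorem le_of_hyp (hE : IsElementaryAbelian 2 E) {Y : Subgroup G} (hY : Odd (Nat.card Y))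
    (hEY : E ≤ normalizer (Y : Set G)) {S : Subgroup G}
    (h : ∀ U, IsHyp E U → Y ⊓ centralizer (U : Set G) ≤ S) : Y ≤ S := by
  haveI : Fact (Nat.Prime 2) := ⟨Nat.prime_two⟩
  exact Cores.le_of_hyperplanes hE (Nat.coprime_two_right.2 hY) hEY
    fun B hB hi => h B (isHyp_of_relIndex_le hB hi)

theorem le_of_pure (hE : IsElementaryAbelian 2 E) {Y : Subgroup G} (hY : Odd (Nat.card Y))
    (hEY : E ≤ normalizer (Y : Set G)) {S : Subgroup G}
    (h : ∀ U, IsHyp E U → ∀ c ∈ Y, IsPure E U c → c ∈ S) : Y ≤ S :=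
  le_of_hyp hE hY hEY fun U hU => inf_centralizer_le hE hY hEY hU (h U hU)
    fun c hc => h E (isHyp_self E) c hc.1 (isPure_self hc.2)

/-- Commutators of generators which land in a subgroup normalized by them. -/
theorem commutator_closure_le {SA SB : Set G} {L : Subgroup G} (hA : SA ⊆ normalizer (L : Set G))
    (hB : SB ⊆ normalizer (L : Set G)) (h : ∀ a ∈ SA, ∀ b ∈ SB, ⁅a, b⁆ ∈ L) :
    ⁅closure SA, closure SB⁆ ≤ L := by
  refine Signalizer.commutator_le_of_forall hB fun x hx b hb => ?_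
  have : x ∈ normalizer (L : Set G) ∧ ⁅x, b⁆ ∈ L := by
    induction hx using Subgroup.closure_induction with
    | mem a ha => exact ⟨hA ha, h a ha b hb⟩
    | one => exact ⟨one_mem _, by rw [commutatorElement_one_left]; exact one_mem _⟩
    | mul a c _ _ iha ihc =>
      refine ⟨mul_mem iha.1 ihc.1, ?_⟩
      rw [Signalizer.commutator_mul_left]
      exact mul_mem ((mem_normalizer_iff.1 iha.1 _).1 ihc.2) iha.2
    | inv a _ iha =>
      refine ⟨inv_mem iha.1, ?_⟩
      rw [show ⁅a⁻¹, b⁆ = a⁻¹ * ⁅a, b⁆⁻¹ * a by simp only [commutatorElement_def]; group]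
      exact (mem_normalizer_iff''.1 iha.1 _).1 (inv_mem iha.2)
  exact this.2

end Basic

namespace GenData

variable {E X : Subgroup G} {M : Subgroup G → Subgroup G}

/-- The pure elements of the members of the family. -/
def pureSet (E X : Subgroup G) (M : Subgroup G → Subgroup G) : Set G :=
  {x | x ∈ X ∧ ∃ U, IsHyp E U ∧ IsPure E U x ∧ x ∈ M U}

variable [Finite G] (d : GenData E X M)
include d

theorem mem_closure_pureSet {U : Subgroup G} (hU : IsHyp E U) {Y : Subgroup G} (hYX : Y ≤ X)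
    (hEY : E ≤ normalizer (Y : Set G)) :
    Y ⊓ M U ≤ closure (pureSet E X M ∩ Y) := by
  have hEM : E ≤ normalizer ((Y ⊓ M U : Subgroup G) : Set G) :=
    Solvable.le_normalizer_inf hEY ((le_centralizer_self d.elem hU.1).trans (d.cent_le U hU.1))
  have hodd : Odd (Nat.card ↥(Y ⊓ M U : Subgroup G)) :=
    d.odd.of_dvd_nat (card_dvd_of_le (inf_le_left.trans hYX))
  refine le_trans (le_inf le_rfl (inf_le_right.trans (d.le_cent U hU.1)))
    (inf_centralizer_le d.elem hodd hEM hU (fun c hc hp => subset_closure ⟨⟨hYX hc.1, U, hU, hp, hc.2⟩, hc.1⟩)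
      fun c hc => subset_closure ⟨⟨hYX hc.1.1, E, isHyp_self E, isPure_self hc.2,
        d.zero U hU ⟨⟨hYX hc.1.1, hc.1.2⟩, hc.2⟩⟩, hc.1.1⟩)

theorem le_closure_pureSet : X ≤ closure (pureSet E X M) :=
  d.gen.trans (iSup_le fun U => (d.mem_closure_pureSet U.2 le_rfl d.norm).trans
    (closure_mono Set.inter_subset_left))

/-- The core computation. -/
theorem commutator_pure_mem {D L : Subgroup G} (hDX : D ≤ X) (hED : E ≤ normalizer (D : Set G))
    (hEL : E ≤ normalizer (L : Set G)) (hDL : D ≤ normalizer (L : Set G))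
    (hmem : ∀ U, IsHyp E U → D ⊓ M U ≤ L)
    {U V : Subgroup G} (hU : IsHyp E U) (hV : IsHyp E V) {n k : G} (hnp : IsPure E U n)
    (hkp : IsPure E V k) (hkM : k ∈ M V) (hc : ⁅n, k⁆ ∈ D)
    (hnc : ⁅n⁻¹, ⁅n, k⁆⁻¹⁆ ∈ L) : ⁅n, k⁆ ∈ L := by
  have hnorm : ∀ {W : Subgroup G}, W ≤ E → n ∈ centralizer (W : Set G) → k ∈ M W → ⁅n, k⁆ ∈ M W := by
    intro W hW hnW hkW
    rw [commutatorElement_def]
    exact mul_mem ((mem_normalizer_iff.1 (d.cent_le W hW hnW) _).1 hkW) (inv_mem hkW)
  by_cases hVE : V = E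
  · exact hmem U hU ⟨hc, hnorm hU.1 hnp.1 (d.mono U E hU.1 le_rfl (hVE ▸ hkM))⟩
  by_cases hUE : U = E
  · exact hmem V hV ⟨hc, hnorm hV.1 (centralizer_le hV.1 (hUE ▸ hnp.1)) hkM⟩
  by_cases hUV : U = V
  · exact hmem V hV ⟨hc, hnorm hV.1 (hUV ▸ hnp.1) hkM⟩
  -- some element of `V` inverts `n`
  obtain ⟨v, hvV, hvU⟩ : ∃ v ∈ V, v ∉ U := by
    by_contra hcon
    push Not at hcon
    obtain ⟨e, heU, heV⟩ : ∃ e ∈ U, e ∉ V := by
      by_contra h2
      push Not at h2
      exact hUV (le_antisymm h2 hcon)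
    refine hUE (le_antisymm hU.1 fun x hx => ?_)
    by_cases hxV : x ∈ V
    · exact hcon _ hxV
    · have h3 := mul_mem (hcon _ (hV.2 x hx e (hU.1 heU) hxV heV)) (inv_mem heU)
      rwa [mul_inv_cancel_right] at h3
  set W := U ⊓ V with hW
  have hWE : W ≤ E := inf_le_left.trans hU.1
  have hcW : ⁅n, k⁆ ∈ M W :=
    hnorm hWE (centralizer_le (show W ≤ U from inf_le_left) hnp.1) (d.mono W V inf_le_right hV.1 hkM)
  set c := ⁅n, k⁆ with hcdef
  have hvc : v * c * v⁻¹ * c ∈ L := by
    have h1 : v * c * v⁻¹ = ⁅n⁻¹, k⁆ := by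
      rw [hcdef, Signalizer.conj_commutator, hnp.2 v (hV.1 hvV) hvU]
      congr 1
      rw [mem_centralizer_iff.1 hkp.1 v hvV, mul_assoc, mul_inv_cancel, mul_one]
    rw [h1, show ⁅n⁻¹, k⁆ * c = ⁅n⁻¹, c⁻¹⁆ by rw [hcdef]; simp only [commutatorElement_def]; group]
    exact hnc
  set MD := D ⊓ M W with hMD
  have hMDX : MD ≤ X := inf_le_left.trans hDX
  have hEMD : E ≤ normalizer (MD : Set G) :=
    Solvable.le_normalizer_inf hED ((le_centralizer_self d.elem hWE).trans (d.cent_le W hWE))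
  have hle : MD ≤ L ⊔ (MD ⊓ centralizer ({v} : Set G)) := by
    refine le_of_pure d.elem (d.odd.of_dvd_nat (card_dvd_of_le hMDX)) hEMD fun R hR x hx hxp => ?_
    by_cases hvR : v ∈ R
    · exact mem_sup_right ⟨hx, mem_centralizer_singleton_iff.2 (mem_centralizer_iff.1 hxp.1 v hvR).symm⟩
    apply mem_sup_left
    by_cases hWR : W ≤ R
    · have hRE : R ≠ E := fun h => hvR (h ▸ hV.1 hvV)
      have hRV : R ≠ V := fun h => hvR (h ▸ hvV)
      have hinf : R ⊓ V = W := by
        refine le_antisymm (fun y hy => ?_) (le_inf hWR inf_le_right)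
        by_contra hyW
        have hyU : y ∉ U := fun h => hyW ⟨h, hy.2⟩
        have h4 : y * v ∈ W := ⟨hU.2 y (hV.1 hy.2) v (hV.1 hvV) hyU hvU, mul_mem hy.2 hvV⟩
        have h5 := R.mul_mem (R.inv_mem hy.1) (hWR h4)
        rw [inv_mul_cancel_left] at h5
        exact hvR h5
      exact hmem R hR ⟨hx.1, d.pure R V hR hV hRE hVE hRV x (hMDX hx) hxp (hinf.symm ▸ hx.2)⟩
    · obtain ⟨w, hwW, hwR⟩ := Set.not_subset.1 hWR
      have h1 : w * x * w⁻¹ = x := by
        rw [mem_centralizer_iff.1 (d.le_cent W hWE hx.2) w hwW, mul_assoc, mul_inv_cancel, mul_one]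
      have h2 : x ^ 2 = 1 := by
        have := hxp.2 w (hWE hwW) hwR
        rw [h1] at this
        rw [pow_two]
        nth_rewrite 2 [this]
        exact mul_inv_cancel x
      exact Techniques.CoprimeGenCB.mem_of_pow_mem_coprime (h2 ▸ one_mem L)
        (Nat.coprime_two_left.2 ((d.odd.of_dvd_nat (card_dvd_of_le hMDX)).of_dvd_nat
          (Subgroup.orderOf_dvd_natCard _ hx)))
  obtain ⟨l, hl, e, he, hle'⟩ := Solvable.exists_mul_of_mem_sup (K := L)
    (A := MD ⊓ centralizer ({v} : Set G)) ((inf_le_left.trans inf_le_left).trans hDL) (hle ⟨hc, hcW⟩)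
  have hev : v * e * v⁻¹ = e := by
    rw [← mem_centralizer_singleton_iff.1 he.2, mul_assoc, mul_inv_cancel, mul_one]
  have h2 : e ^ 2 ∈ L := by
    have h3 : v * c * v⁻¹ * c = (v * l * v⁻¹) * (e * l * e⁻¹) * e ^ 2 := by
      have h31 : v * c * v⁻¹ = (v * l * v⁻¹) * (v * e * v⁻¹) := by rw [hle']; group
      rw [h31, hev, hle', pow_two]
      group
    have h4 : (v * l * v⁻¹) * (e * l * e⁻¹) ∈ L := mul_mem
      ((mem_normalizer_iff.1 (hEL (hV.1 hvV)) _).1 hl) ((mem_normalizer_iff.1 (hDL he.1.1) _).1 hl)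
    rw [h3] at hvc
    exact (Subgroup.mul_mem_cancel_left L h4).1 hvc
  have he' : e ∈ L := Techniques.CoprimeGenCB.mem_of_pow_mem_coprime h2
    (Nat.coprime_two_left.2 (d.odd.of_dvd_nat ((Subgroup.orderOf_dvd_natCard _ he.1).trans (card_dvd_of_le hMDX))))
  rw [hle']
  exact mul_mem hl he'

/-- One step of the descent along the derived series. -/
theorem step {D : Subgroup G} (hDX : D ≤ X) (hED : E ≤ normalizer (D : Set G))
    (hXD : X ≤ normalizer (D : Set G))
    (hclaim : ∀ R, IsHyp E R → X ⊓ centralizer (R : Set G) ≤ M R ⊔ (D ⊓ centralizer (R : Set G)))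
    (hderiv : D = X ∨ ∃ U' : Subgroup G, U' ≤ X ∧ E ≤ normalizer (U' : Set G) ∧ X ≤ normalizer (U' : Set G) ∧
      D = ⁅U', U'⁆) :
    ∀ R, IsHyp E R → X ⊓ centralizer (R : Set G) ≤ M R ⊔ (⁅D, D⁆ ⊓ centralizer (R : Set G)) := by
  classical
  set D' := ⁅D, D⁆ with hD'
  have hnD' : normalizer (D : Set G) ≤ normalizer (D' : Set G) :=
    (le_inf le_rfl le_rfl).trans (Solvable.normalizer_le_normalizer_commutator D D)
  have hD'D : D' ≤ D := Subgroup.commutator_le.2 fun a ha b hb => by
    rw [commutatorElement_def]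
    exact mul_mem (mul_mem (mul_mem ha hb) (inv_mem ha)) (inv_mem hb)
  set S0 := pureSet E X M ∩ (D : Set G) with hS0
  set L := closure S0 ⊔ D' with hL
  have hLD : L ≤ D := sup_le ((closure_le _).2 Set.inter_subset_right) hD'D
  have hD'L : D' ≤ L := le_sup_right
  have hS0L : ∀ x ∈ S0, x ∈ L := fun x hx => mem_sup_left (subset_closure hx)
  have hmem : ∀ U, IsHyp E U → D ⊓ M U ≤ L := fun U hU =>
    ((d.mem_closure_pureSet hU hDX hED).trans le_rfl).trans le_sup_left
  have hEL : E ≤ normalizer (L : Set G) := by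
    intro e he
    refine Solvable.mem_normalizer_of_conj_mem ?_
    suffices L ≤ L.comap (MulAut.conj e).toMonoidHom from this
    refine sup_le ((closure_le _).2 ?_) ?_
    · rintro x ⟨⟨hxX, U, hU, hp, hM⟩, hxD⟩
      exact hS0L _ ⟨⟨(mem_normalizer_iff.1 (d.norm he) _).1 hxX, U, hU, isPure_conj d.elem hU he hp,
        (mem_normalizer_iff.1 (d.cent_le U hU.1 (le_centralizer_self d.elem hU.1 he)) _).1 hM⟩,
        (mem_normalizer_iff.1 (hED he) _).1 hxD⟩
    · exact fun x hx => hD'L ((mem_normalizer_iff.1 (hnD' (hED he)) _).1 hx)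
  have hDL : D ≤ normalizer (L : Set G) := fun g hg => Solvable.mem_normalizer_of_conj_mem fun x hx => by
    rw [show g * x * g⁻¹ = ⁅g, x⁆ * x by simp only [commutatorElement_def]; group]
    exact mul_mem (hD'L (commutator_mem_commutator hg (hLD hx))) hx
  have hcomm : ∀ {x y : G}, x ∈ X → y ∈ D → ⁅x, y⁆ ∈ D := fun {x y} hx hy => by
    rw [commutatorElement_def]
    exact mul_mem ((mem_normalizer_iff.1 (hXD hx) _).1 hy) (inv_mem hy)
  -- `D` is central modulo `L`
  have hcore : ∀ n ∈ D, ∀ U, IsHyp E U → IsPure E U n → ∀ k ∈ pureSet E X M, ⁅n, k⁆ ∈ L := by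
    rintro n hn U hU hnp k ⟨hkX, V, hV, hkp, hkM⟩
    have hc : ⁅n, k⁆ ∈ D := by rw [← commutatorElement_inv k n]; exact inv_mem (hcomm hkX hn)
    exact d.commutator_pure_mem hDX hED hEL hDL hmem hU hV hnp hkp hkM hc
      (hD'L (commutator_mem_commutator (inv_mem hn) (inv_mem hc)))
  have hpX : pureSet E X M ⊆ normalizer (L : Set G) := by
    intro k hk
    refine Solvable.mem_normalizer_of_conj_mem ?_
    suffices L ≤ L.comap (MulAut.conj k).toMonoidHom from this
    refine sup_le ((closure_le _).2 ?_) ?_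
    · rintro n ⟨⟨hnX, U, hU, hnp, hM⟩, hnD⟩
      show k * n * k⁻¹ ∈ L
      rw [show k * n * k⁻¹ = ⁅n, k⁆⁻¹ * n by simp only [commutatorElement_def]; group]
      exact mul_mem (inv_mem (hcore n hnD U hU hnp k hk)) (hS0L _ ⟨⟨hnX, U, hU, hnp, hM⟩, hnD⟩)
    · exact fun x hx => hD'L ((mem_normalizer_iff.1 (hnD' (hXD hk.1)) _).1 hx)
  have hXL : X ≤ normalizer (L : Set G) := d.le_closure_pureSet.trans ((closure_le _).2 hpX)
  have hXc : closure (pureSet E X M) = X :=
    le_antisymm ((closure_le _).2 fun x hx => hx.1) d.le_closure_pureSet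
  set SD := {n | n ∈ D ∧ ∃ U, IsHyp E U ∧ IsPure E U n} with hSD
  have hDgen : D ≤ closure SD := le_of_pure d.elem (d.odd.of_dvd_nat (card_dvd_of_le hDX)) hED
    fun U hU c hc hp => subset_closure ⟨hc, U, hU, hp⟩
  have hcent : ⁅D, X⁆ ≤ L := by
    refine (Subgroup.commutator_mono hDgen hXc.ge).trans (commutator_closure_le (fun n hn => hDL hn.1) hpX ?_)
    rintro n ⟨hn, U, hU, hp⟩ k hk
    exact hcore n hn U hU hp k hk
  have hDeq : D ≤ L := by
    rcases hderiv with hDeq | ⟨U', hU'X, hEU', hXU', hDeq⟩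
    · intro x hx
      have h2 : closure (pureSet E X M) ≤ L := (closure_le _).2 fun y hy => hS0L _ ⟨hy, hDeq.symm ▸ hy.1⟩
      exact h2 (hXc.ge (hDeq ▸ hx))
    · set SU := (pureSet E X M ∩ (U' : Set G)) ∪ (D : Set G) with hSU
      have hDU' : D ≤ U' := hDeq ▸ Subgroup.commutator_le.2 fun a ha b hb => by
        rw [commutatorElement_def]
        exact mul_mem (mul_mem (mul_mem ha hb) (inv_mem ha)) (inv_mem hb)
      have hU'gen : U' ≤ closure SU := by
        refine le_of_hyp d.elem (d.odd.of_dvd_nat (card_dvd_of_le hU'X)) hEU' fun R hR x hx => ?_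
        have h1 := hclaim R hR ⟨hU'X hx.1, hx.2⟩
        obtain ⟨m, hm, y, hy, rfl⟩ := Solvable.exists_mul_of_mem_sup
          ((inf_le_right : D ⊓ centralizer (R : Set G) ≤ _).trans (d.cent_le R hR.1)) h1
        refine mul_mem ?_ (subset_closure (Or.inr hy.1))
        have hmU : m ∈ U' := by
          have := U'.mul_mem hx.1 (U'.inv_mem (hDU' hy.1))
          rwa [mul_inv_cancel_right] at this
        exact closure_mono Set.subset_union_left (d.mem_closure_pureSet hR hU'X hEU' ⟨hmU, hm⟩)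
      have hn : SU ⊆ normalizer (L : Set G) := Set.union_subset (fun x hx => hpX hx.1) hDL
      refine le_trans (le_of_eq hDeq) ((Subgroup.commutator_mono hU'gen hU'gen).trans
        (commutator_closure_le hn hn ?_))
      have key : ∀ a ∈ (D : Set G), ∀ b ∈ SU, ⁅a, b⁆ ∈ L ∧ ⁅b, a⁆ ∈ L := by
        intro a ha b hb
        have h1 : ⁅a, b⁆ ∈ L := hcent (commutator_mem_commutator ha
          (hb.elim (fun h => hU'X h.2) fun h => hDX h))
        exact ⟨h1, by rw [← commutatorElement_inv a b]; exact inv_mem h1⟩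
      rintro a (ha | ha) b hb
      · rcases hb with hb | hb
        · obtain ⟨⟨haX, U, hU, hap, -⟩, haU⟩ := ha
          obtain ⟨⟨hbX, V, hV, hbp, hbM⟩, hbU⟩ := hb
          have hc : ⁅a, b⁆ ∈ D := hDeq ▸ commutator_mem_commutator haU hbU
          refine d.commutator_pure_mem hDX hED hEL hDL hmem hU hV hap hbp hbM hc ?_
          rw [← commutatorElement_inv ⁅a, b⁆⁻¹ a⁻¹]
          exact inv_mem (hcent (commutator_mem_commutator (inv_mem hc) (inv_mem haX)))
        · exact (key b hb a (Or.inl ha)).2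
      · exact (key a ha b hb).1
  -- the fixed points of `R` in `D`
  intro R hR x hx
  have hRE : ∀ r ∈ R, r ∈ E := fun r hr => hR.1 hr
  obtain ⟨m, hm, y, hy, rfl⟩ := Solvable.exists_mul_of_mem_sup
    ((inf_le_right : D ⊓ centralizer (R : Set G) ≤ _).trans (d.cent_le R hR.1)) (hclaim R hR hx)
  refine mul_mem (mem_sup_left hm) ?_
  have hstep : ∀ T : Finset G, (∀ r ∈ T, r ∈ R) →
      y ∈ closure {g | g ∈ S0 ∧ ∀ r ∈ T, r * g = g * r} ⊔ D' := by
    intro T
    induction T using Finset.induction_on with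
    | empty =>
      intro _
      simpa using (show y ∈ closure S0 ⊔ D' from hDeq hy.1)
    | insert r T hrT ih =>
      intro hT
      have hrR : r ∈ R := hT r (Finset.mem_insert_self r T)
      set S := {g | g ∈ S0 ∧ ∀ s ∈ T, s * g = g * s}
      set S' := {g | g ∈ S0 ∧ ∀ s ∈ insert r T, s * g = g * s}
      set K := closure S' ⊔ D'
      have hKD : K ≤ D := sup_le ((closure_le _).2 fun g hg => hg.1.2) hD'D
      have hD'K : D' ≤ K := le_sup_right
      have hDK : ∀ {g h : G}, g ∈ D → h ∈ K → g * h * g⁻¹ ∈ K := fun {g h} hg hh => by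
        rw [show g * h * g⁻¹ = ⁅g, h⁆ * h by simp only [commutatorElement_def]; group]
        exact mul_mem (hD'K (commutator_mem_commutator hg (hKD hh))) hh
      have hrD : r ∈ normalizer (D : Set G) := hED (hRE r hrR)
      let H : Subgroup G :=
        { carrier := {g | g ∈ D ∧ g * (r * g * r⁻¹) ∈ K}
          one_mem' := ⟨one_mem _, by simp⟩
          mul_mem' := fun {a b} ha hb => ⟨mul_mem ha.1 hb.1, by
            have hra : r * a * r⁻¹ ∈ D := (mem_normalizer_iff.1 hrD _).1 ha.1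
            have e : a * b * (r * (a * b) * r⁻¹) =
                a * ⁅b, r * a * r⁻¹⁆ * a⁻¹ * ((a * (r * a * r⁻¹)) * (b * (r * b * r⁻¹))) := by
              simp only [commutatorElement_def]; group
            rw [e]
            exact mul_mem (hDK ha.1 (hD'K (commutator_mem_commutator hb.1 hra))) (mul_mem ha.2 hb.2)⟩
          inv_mem' := fun {a} ha => ⟨inv_mem ha.1, by
            have hra : r * a * r⁻¹ ∈ D := (mem_normalizer_iff.1 hrD _).1 ha.1
            have e : a⁻¹ * (r * a⁻¹ * r⁻¹) =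
                (a * (r * a * r⁻¹))⁻¹ * ((a * (r * a * r⁻¹)) * ⁅a⁻¹, (r * a * r⁻¹)⁻¹⁆ *
                  (a * (r * a * r⁻¹))⁻¹) * 1 * ((a * (r * a * r⁻¹)) * 1 * (a * (r * a * r⁻¹))⁻¹) := by
              simp only [commutatorElement_def]; group
            rw [e]
            exact mul_mem (mul_mem (mul_mem (inv_mem ha.2)
              (mul_mem (mul_mem ha.2 (hD'K (commutator_mem_commutator (inv_mem ha.1) (inv_mem hra))))
                (inv_mem ha.2))) (one_mem _))
              (mul_mem (mul_mem ha.2 (one_mem _)) (inv_mem ha.2))⟩ }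
      have hSH : closure S ⊔ D' ≤ H := by
        refine sup_le ((closure_le _).2 ?_) fun g hg =>
          ⟨hD'D hg, hD'K (mul_mem hg ((mem_normalizer_iff.1 (hnD' hrD) _).1 hg))⟩
        rintro g ⟨hg, hgT⟩
        refine ⟨hg.2, ?_⟩
        have hg0 := hg
        obtain ⟨⟨-, U, hU, hp, -⟩, -⟩ := hg
        by_cases hrU : r ∈ U
        · have hfix : r * g = g * r := mem_centralizer_iff.1 hp.1 r hrU
          have hgK : g ∈ K := mem_sup_left (subset_closure ⟨hg0, fun s hs => by
            rcases Finset.mem_insert.1 hs with rfl | hs'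
            exacts [hfix, hgT s hs']⟩)
          rw [hfix, mul_inv_cancel_right]
          exact mul_mem hgK hgK
        · rw [hp.2 r (hRE r hrR) hrU, mul_inv_cancel]
          exact one_mem _
      have h1 := (hSH (ih fun s hs => hT s (Finset.mem_insert_of_mem hs))).2
      have h2 : r * y * r⁻¹ = y := by
        rw [mem_centralizer_iff.1 hy.2 r hrR, mul_assoc, mul_inv_cancel, mul_one]
      rw [h2, ← pow_two] at h1
      exact Techniques.CoprimeGenCB.mem_of_pow_mem_coprime h1
        (Nat.coprime_two_left.2 (d.odd.of_dvd_nat ((Subgroup.orderOf_dvd_natCard _ hy.1).trans (card_dvd_of_le hDX))))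
  haveI := Fintype.ofFinite G
  have hy' := hstep (Finset.univ.filter fun g => g ∈ R) (fun r hr => (Finset.mem_filter.1 hr).2)
  have hle : closure {g | g ∈ S0 ∧ ∀ r ∈ Finset.univ.filter (fun g => g ∈ R), r * g = g * r} ≤ D ⊓ M R := by
    refine (closure_le _).2 ?_
    rintro g ⟨⟨⟨hgX, U, hU, hp, hM⟩, hgD⟩, hfix⟩
    refine ⟨hgD, ?_⟩
    by_cases hRU : R ≤ U
    · exact d.mono R U hRU hU.1 hM
    obtain ⟨r, hrR, hrU⟩ := Set.not_subset.1 hRU
    have h1 : r * g * r⁻¹ = g := by
      rw [hfix r (Finset.mem_filter.2 ⟨Finset.mem_univ r, hrR⟩), mul_inv_cancel_right]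
    have h2 : g ^ 2 = 1 := by
      have := hp.2 r (hRE r hrR) hrU
      rw [h1] at this
      rw [pow_two]
      nth_rewrite 2 [this]
      exact mul_inv_cancel g
    exact Techniques.CoprimeGenCB.mem_of_pow_mem_coprime (h2 ▸ one_mem _)
      (Nat.coprime_two_left.2 (d.odd.of_dvd_nat (Subgroup.orderOf_dvd_natCard _ hgX)))
  obtain ⟨b, hb, a, ha, rfl⟩ := Solvable.exists_mul_of_mem_sup (K := D') (A := D ⊓ M R)
    (inf_le_left.trans ((le_normalizer).trans hnD')) (sup_comm (D ⊓ M R) D' ▸ sup_le_sup_right hle D' hy')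
  have haC : a ∈ centralizer (R : Set G) := d.le_cent R hR.1 ha.2
  have hbC : b ∈ centralizer (R : Set G) := by
    have := (centralizer (R : Set G)).mul_mem hy.2 ((centralizer (R : Set G)).inv_mem haC)
    rwa [mul_inv_cancel_right] at this
  exact mul_mem (mem_sup_right ⟨hb, hbC⟩) (mem_sup_left ha.2)

/-- The generation lemma. -/
theorem inf_centralizer_le_of_data : ∀ R, IsHyp E R → X ⊓ centralizer (R : Set G) ≤ M R := by
  suffices h : ∀ D : Subgroup G, D ≤ X → E ≤ normalizer (D : Set G) → X ≤ normalizer (D : Set G) →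
      (∀ R, IsHyp E R → X ⊓ centralizer (R : Set G) ≤ M R ⊔ (D ⊓ centralizer (R : Set G))) →
      (D = X ∨ ∃ U' : Subgroup G, U' ≤ X ∧ E ≤ normalizer (U' : Set G) ∧ X ≤ normalizer (U' : Set G) ∧
        D = ⁅U', U'⁆) → ∀ R, IsHyp E R → X ⊓ centralizer (R : Set G) ≤ M R from
    h X le_rfl d.norm le_normalizer (fun R _ => le_sup_right) (Or.inl rfl)
  intro D
  induction D using WellFoundedLT.induction with
  | _ D ih =>
    intro hDX hED hXD hclaim hderiv R hR
    rcases eq_or_ne D ⊥ with rfl | hne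
    · simpa using hclaim R hR
    have hs := Solvable.isSolvable_of_le d.solv hDX
    have hlt := Solvable.commutator_self_lt hs hne
    have hn : normalizer (D : Set G) ≤ normalizer ((⁅D, D⁆ : Subgroup G) : Set G) :=
      (le_inf le_rfl le_rfl).trans (Solvable.normalizer_le_normalizer_commutator D D)
    exact ih _ hlt (hlt.le.trans hDX) (hED.trans hn) (hXD.trans hn) (d.step hDX hED hXD hclaim hderiv)
      (Or.inr ⟨D, hDX, hED, hXD, rfl⟩) R hR

end GenData

end CfsgLib.Goldschmidt
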