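import Cfsg.Agent.Lib.Goldschmidt.Gen
import Cfsg.Agent.Lib.Cores.PConstrained
import Cfsg.Prelude.Def_CaseTheorems

/-!
Two commuting classes of involutions: balance of the cores of centralizers.

For commuting involutions `i ∈ X₁`, `j ∈ X₂` and an involution `u` commuting with both, the elements of
`Q i ⊓ Q j` centralizing `u` lie in `Q u`, where `Q u = O(C(u))`.
-/

set_option autoImplicit false
set_option linter.unusedSectionVars false
set_option linter.style.haveILetI false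

namespace CfsgLib.Goldschmidt

open Subgroup Cfsg
open scoped commutatorElement

variable {G : Type*} [Group G]

/-- Two invariant sets of involutions which commute modulo cores in proper subgroups. -/
structure Setting (X₁ X₂ : Set G) : Prop where
  conj₁ : ∀ g : G, ∀ x ∈ X₁, g * x * g⁻¹ ∈ X₁
  conj₂ : ∀ g : G, ∀ x ∈ X₂, g * x * g⁻¹ ∈ X₂
  inv₁ : ∀ x ∈ X₁, orderOf x = 2
  inv₂ : ∀ x ∈ X₂, orderOf x = 2
  disj : ∀ x ∈ X₁, x ∉ X₂
  two : ∀ R : Subgroup G, IsPGroup 2 R → ∀ x ∈ X₁, ∀ y ∈ X₂, x ∈ R → y ∈ R → x * y = y * x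
  ind : ∀ u : G, u ≠ 1 → ∀ x y : ↥(centralizer ({u} : Set G)), (x : G) ∈ X₁ → (y : G) ∈ X₂ →
    ⁅x, y⁆ ∈ oddCore ↥(centralizer ({u} : Set G))

theorem Setting.swap {X₁ X₂ : Set G} (h : Setting X₁ X₂) : Setting X₂ X₁ where
  conj₁ := h.conj₂
  conj₂ := h.conj₁
  inv₁ := h.inv₂
  inv₂ := h.inv₁
  disj := fun x hx hx' => h.disj x hx' hx
  two := fun R hR x hx y hy hxR hyR => (h.two R hR y hy x hx hyR hxR).symm
  ind := fun u hu x y hx hy => by
    rw [← commutatorElement_inv]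
    exact inv_mem (h.ind u hu y x hy hx)

/-- The largest normal subgroup of odd order of the centralizer of `p`, inside `G`. -/
noncomputable def Q (p : G) : Subgroup G :=
  (oddCore ↥(centralizer ({p} : Set G))).map (centralizer ({p} : Set G)).subtype

theorem Q_le (p : G) : Q p ≤ centralizer ({p} : Set G) := map_subtype_le _

theorem Q_comm {p c : G} (hc : c ∈ Q p) : c * p = p * c := mem_centralizer_singleton_iff.1 (Q_le p hc)

variable [Finite G]

theorem odd_Q (p : G) : Odd (Nat.card (Q p)) := by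
  rw [Q, card_map_of_injective (centralizer ({p} : Set G)).subtype_injective]
  exact Cores.odd_card_oddCore

theorem le_Q {p : G} {N : Subgroup G} (hN : N ≤ centralizer ({p} : Set G)) (hodd : Odd (Nat.card N))
    (hn : centralizer ({p} : Set G) ≤ normalizer (N : Set G)) : N ≤ Q p := by
  haveI := (normal_subgroupOf_iff_le_normalizer hN).2 hn
  have h := Cores.le_oddCore_of_odd (N := N.subgroupOf (centralizer ({p} : Set G)))
    (by rwa [Nat.card_congr (subgroupOfEquivOfLe hN).toEquiv])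
  rw [← map_subgroupOf_eq_of_le hN]
  exact map_mono h

theorem centralizer_le_normalizer_Q (p : G) : centralizer ({p} : Set G) ≤ normalizer (Q p : Set G) := by
  intro g hg
  refine Solvable.mem_normalizer_of_conj_mem ?_
  rintro _ ⟨x, hx, rfl⟩
  exact ⟨⟨g, hg⟩ * x * ⟨g, hg⟩⁻¹, Normal.conj_mem inferInstance x hx _, rfl⟩

theorem map_Q_le (g p : G) : (Q p).map (MulAut.conj g).toMonoidHom ≤ Q (g * p * g⁻¹) := by
  refine le_Q ?_ ?_ ?_
  · rintro _ ⟨x, hx, rfl⟩
    refine mem_centralizer_singleton_iff.2 ?_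
    show g * x * g⁻¹ * (g * p * g⁻¹) = g * p * g⁻¹ * (g * x * g⁻¹)
    rw [show g * x * g⁻¹ * (g * p * g⁻¹) = g * (x * p) * g⁻¹ by group, Q_comm hx]
    group
  · rw [card_map_of_injective (MulAut.conj g).injective]
    exact odd_Q p
  · intro c hc
    have hc' : g⁻¹ * c * g ∈ centralizer ({p} : Set G) := by
      refine mem_centralizer_singleton_iff.2 ?_
      have h := mem_centralizer_singleton_iff.1 hc
      calc g⁻¹ * c * g * p = g⁻¹ * (c * (g * p * g⁻¹)) * g := by group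
        _ = g⁻¹ * (g * p * g⁻¹ * c) * g := by rw [h]
        _ = p * (g⁻¹ * c * g) := by group
    refine Solvable.mem_normalizer_of_conj_mem ?_
    rintro _ ⟨x, hx, rfl⟩
    refine ⟨g⁻¹ * c * g * x * (g⁻¹ * c * g)⁻¹,
      (mem_normalizer_iff.1 (centralizer_le_normalizer_Q p hc') x).1 hx, ?_⟩
    show g * (g⁻¹ * c * g * x * (g⁻¹ * c * g)⁻¹) * g⁻¹ = c * (g * x * g⁻¹) * c⁻¹
    group

theorem map_Q (g p : G) : (Q p).map (MulAut.conj g).toMonoidHom = Q (g * p * g⁻¹) := by
  refine le_antisymm (map_Q_le g p) ?_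
  have h := map_Q_le g⁻¹ (g * p * g⁻¹)
  rw [show g⁻¹ * (g * p * g⁻¹) * g⁻¹⁻¹ = p by group] at h
  intro x hx
  refine ⟨g⁻¹ * x * g, ?_, ?_⟩
  · have := h ⟨x, hx, rfl⟩
    simpa using this
  · show g * (g⁻¹ * x * g) * g⁻¹ = x
    group

theorem mem_Q_of_pow {p c : G} {n : ℕ} (h : c ^ n ∈ Q p) (hn : n.Coprime (orderOf c)) : c ∈ Q p :=
  Techniques.CoprimeGenCB.mem_of_pow_mem_coprime h hn

/-- An odd subgroup of a normal subgroup, normalized by it, is trivial when there is no core. -/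
theorem eq_bot_of_odd_normalized {C : Type*} [Group C] [Finite C] (hO : oddCore C = ⊥) {N T : Subgroup C}
    [N.Normal] (hT : T ≤ N) (hn : N ≤ normalizer (T : Set C)) (hodd : Odd (Nat.card T)) : T = ⊥ := by
  haveI := (normal_subgroupOf_iff_le_normalizer hT).2 hn
  have h1 := Cores.le_oddCore_of_odd (N := T.subgroupOf N)
    (by rwa [Nat.card_congr (subgroupOfEquivOfLe hT).toEquiv])
  have h2 := map_mono (f := N.subtype) h1
  rw [map_subgroupOf_eq_of_le hT] at h2
  haveI := Cores.map_subtype_pPrimeCore_normal 2 N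
  have h3 : (oddCore ↥N).map N.subtype ≤ oddCore C := Cores.le_oddCore_of_odd (by
    rw [card_map_of_injective N.subtype_injective]; exact Cores.odd_card_oddCore)
  exact eq_bot_iff.2 (h2.trans (h3.trans hO.le))

namespace Setting

variable {X₁ X₂ : Set G}

/-- The image in `C(u) / O(C(u))` of the subgroup generated by the members of `X` centralizing `u`. -/
noncomputable def img (X : Set G) (u : G) :
    Subgroup (↥(centralizer ({u} : Set G)) ⧸ oddCore ↥(centralizer ({u} : Set G))) :=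
  closure (QuotientGroup.mk' _ '' {x | (x : G) ∈ X})

theorem mem_img {X : Set G} {u : G} {x : ↥(centralizer ({u} : Set G))} (hx : (x : G) ∈ X) :
    QuotientGroup.mk' _ x ∈ img X u := subset_closure ⟨x, hx, rfl⟩

theorem img_normal (h : Setting X₁ X₂) (u : G) : (img X₁ u).Normal := by
  have key : Group.conjugatesOfSet (QuotientGroup.mk' (oddCore ↥(centralizer ({u} : Set G))) '' {x | (x : G) ∈ X₁}) ⊆
      QuotientGroup.mk' _ '' {x | (x : G) ∈ X₁} := by
    intro y hy
    obtain ⟨_, ⟨x, hx, rfl⟩, hc⟩ := Group.mem_conjugatesOfSet_iff.1 hy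
    obtain ⟨c, rfl⟩ := isConj_iff.1 hc
    obtain ⟨c, rfl⟩ := QuotientGroup.mk'_surjective _ c
    exact ⟨c * x * c⁻¹, h.conj₁ (c : G) (x : G) hx, by simp⟩
  have : img X₁ u =
      Subgroup.normalClosure (QuotientGroup.mk' (oddCore ↥(centralizer ({u} : Set G))) '' {x | (x : G) ∈ X₁}) := by
    apply le_antisymm
    · exact Subgroup.closure_le_normalClosure
    · exact Subgroup.closure_mono key
  rw [this]
  infer_instance

theorem img_commute (h : Setting X₁ X₂) {u : G} (hu : u ≠ 1) :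
    img X₁ u ≤ centralizer (SetLike.coe (img X₂ u)) := by
  refine (closure_le _).2 ?_
  rintro _ ⟨x, hx, rfl⟩
  rw [SetLike.mem_coe, img, centralizer_closure, mem_centralizer_iff]
  rintro _ ⟨y, hy, rfl⟩
  refine (commutatorElement_eq_one_iff_mul_comm.1 ?_).symm
  rw [← map_commutatorElement]
  exact (QuotientGroup.eq_one_iff _).2 (h.ind u hu x y hx hy)

theorem ne_one₂ (h : Setting X₁ X₂) {y : G} (hy : y ∈ X₂) : y ≠ 1 := fun e => by
  have := h.inv₂ y hy; rw [e, orderOf_one] at this; omega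

theorem ne_one₁ (h : Setting X₁ X₂) {y : G} (hy : y ∈ X₁) : y ≠ 1 := fun e => by
  have := h.inv₁ y hy; rw [e, orderOf_one] at this; omega

/-- Elements of `Q j` centralizing `u` act trivially on the `X₁`-part of `C(u)/O(C(u))`. -/
theorem img_le_centralizer (h : Setting X₁ X₂) {u j : G} (hu : u ≠ 1) (hj : j ∈ X₂) (hju : j * u = u * j)
    {c₀ : G} (hc : c₀ ∈ Q j) (hcu : c₀ ∈ centralizer ({u} : Set G)) :
    QuotientGroup.mk' _ (⟨c₀, hcu⟩ : ↥(centralizer ({u} : Set G))) ∈ centralizer (SetLike.coe (img X₁ u)) := by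
  set C := centralizer ({u} : Set G) with hC
  set π := QuotientGroup.mk' (oddCore ↥C)
  set jc : ↥C := ⟨j, mem_centralizer_singleton_iff.2 hju⟩ with hjc
  set c : ↥C := ⟨c₀, hcu⟩ with hcdef
  haveI : (img X₁ u).Normal := h.img_normal u
  set R := ((Q j).subgroupOf C).map π with hR
  have hodd : Odd (Nat.card R) := by
    refine Odd.of_dvd_nat ?_ (card_map_dvd _ _)
    exact (odd_Q j).of_dvd_nat (card_comap_dvd_of_injective _ C.subtype C.subtype_injective)
  have hP : IsPGroup 2 ↥(zpowers jc) := by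
    refine IsPGroup.of_card (n := 1) ?_
    rw [Nat.card_zpowers, pow_one, orderOf_mk, h.inv₂ j hj]
  have hA : img X₁ u ≤ normalizer (R : Set _) := by
    have h1 : img X₁ u ≤ (centralizer ((zpowers jc : Subgroup ↥C) : Set ↥C)).map π := by
      haveI : Fact (Nat.Prime 2) := ⟨Nat.prime_two⟩
      rw [Cores.map_mk'_centralizer_of_coprime hP (Cores.coprime_card_pPrimeCore 2)]
      refine (h.img_commute hu).trans (centralizer_le ?_)
      rintro _ ⟨x, hx, rfl⟩
      obtain ⟨k, rfl⟩ := mem_zpowers_iff.1 hx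
      rw [SetLike.mem_coe, map_zpow]
      exact zpow_mem (mem_img (show ((jc : ↥C) : G) ∈ X₂ from hj)) k
    refine h1.trans ?_
    rintro _ ⟨g, hg, rfl⟩
    refine Solvable.mem_normalizer_of_conj_mem ?_
    rintro _ ⟨x, hx, rfl⟩
    refine ⟨g * x * g⁻¹, ?_, by simp⟩
    have hgj : (g : G) ∈ centralizer ({j} : Set G) := mem_centralizer_singleton_iff.2
      (congrArg Subtype.val (mem_centralizer_iff.1 hg jc (mem_zpowers jc))).symm
    exact (mem_normalizer_iff.1 (centralizer_le_normalizer_Q j hgj) _).1 hx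
  have hT : R ⊓ img X₁ u = ⊥ := eq_bot_of_odd_normalized (Cores.pPrimeCore_quotient_self 2) inf_le_right
    (Solvable.le_normalizer_inf hA le_normalizer) (hodd.of_dvd_nat (card_dvd_of_le inf_le_left))
  have hcR : π c ∈ R := ⟨c, hc, rfl⟩
  rw [mem_centralizer_iff]
  intro a ha
  have h1 : ⁅a, π c⁆ ∈ R ⊓ img X₁ u := by
    rw [commutatorElement_def]
    exact ⟨R.mul_mem ((mem_normalizer_iff.1 (hA ha) _).1 hcR) (R.inv_mem hcR),
      by rw [mul_assoc, mul_assoc, ← mul_assoc (π c)]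
         exact mul_mem ha (Normal.conj_mem inferInstance _ (inv_mem ha) _)⟩
  rw [hT, mem_bot] at h1
  exact commutatorElement_eq_one_iff_mul_comm.1 h1

/-- Half of the balance. -/
theorem commutator_mem_Q (h : Setting X₁ X₂) {u j b c : G} (hu : u ≠ 1) (hj : j ∈ X₂) (hju : j * u = u * j)
    (hb : b ∈ X₁) (hbu : b * u = u * b) (hc : c ∈ Q j) (hcu : c * u = u * c) : ⁅c, b⁆ ∈ Q u := by
  set cc : ↥(centralizer ({u} : Set G)) := ⟨c, mem_centralizer_singleton_iff.2 hcu⟩ with hcc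
  set bc : ↥(centralizer ({u} : Set G)) := ⟨b, mem_centralizer_singleton_iff.2 hbu⟩ with hbc
  refine ⟨⁅cc, bc⁆, ?_, by simp [hcc, hbc, commutatorElement_def]⟩
  refine (QuotientGroup.eq_one_iff _).1 ?_
  show QuotientGroup.mk' _ ⁅cc, bc⁆ = 1
  rw [map_commutatorElement, commutatorElement_eq_one_iff_mul_comm]
  exact (mem_centralizer_iff.1 (h.img_le_centralizer hu hj hju hc cc.2) _
    (mem_img (show (bc : G) ∈ X₁ from hb))).symm

/-- An element inverted by an involution of `X₁`. -/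
theorem mem_Q_of_inverted (h : Setting X₁ X₂) {u j b c : G} (hu : u ≠ 1) (hj : j ∈ X₂) (hju : j * u = u * j)
    (hb : b ∈ X₁) (hbu : b * u = u * b) (hc : c ∈ Q j) (hcu : c * u = u * c) (hbc : b * c * b⁻¹ = c⁻¹) :
    c ∈ Q u := by
  have h1 := h.commutator_mem_Q hu hj hju hb hbu hc hcu
  have h2 : ⁅c, b⁆ = c ^ 2 := by
    have : b * c⁻¹ * b⁻¹ = c := by
      rw [show b * c⁻¹ * b⁻¹ = (b * c * b⁻¹)⁻¹ by group, hbc, inv_inv]
    rw [commutatorElement_def, pow_two]
    calc c * b * c⁻¹ * b⁻¹ = c * (b * c⁻¹ * b⁻¹) := by group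
      _ = c * c := by rw [this]
  exact mem_Q_of_pow (h2 ▸ h1)
    (Nat.coprime_two_left.2 ((odd_Q j).of_dvd_nat (Subgroup.orderOf_dvd_natCard _ hc)))

/-- **Balance**. -/
theorem mem_Q_of_pair (h : Setting X₁ X₂) {u i j c : G} (hu : u ≠ 1) (hi : i ∈ X₁) (hj : j ∈ X₂)
    (hiu : i * u = u * i) (hju : j * u = u * j) (hci : c ∈ Q i) (hcj : c ∈ Q j) (hcu : c * u = u * c) :
    c ∈ Q u := by
  set C := centralizer ({u} : Set G) with hC
  set π := QuotientGroup.mk' (oddCore ↥C)
  set cc : ↥C := ⟨c, mem_centralizer_singleton_iff.2 hcu⟩ with hcc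
  set ic : ↥C := ⟨i, mem_centralizer_singleton_iff.2 hiu⟩ with hic
  haveI : (img X₁ u).Normal := h.img_normal u
  haveI : (img X₂ u).Normal := h.swap.img_normal u
  set N := centralizer (SetLike.coe (img X₁ u)) ⊓ centralizer (SetLike.coe (img X₂ u))
    with hN
  set R := ((Q i).subgroupOf C).map π with hR
  have hodd : Odd (Nat.card R) := by
    refine Odd.of_dvd_nat ?_ (card_map_dvd _ _)
    exact (odd_Q i).of_dvd_nat (card_comap_dvd_of_injective _ C.subtype C.subtype_injective)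
  have hP : IsPGroup 2 ↥(zpowers ic) := by
    refine IsPGroup.of_card (n := 1) ?_
    rw [Nat.card_zpowers, pow_one, orderOf_mk, h.inv₁ i hi]
  have hNn : N ≤ normalizer (R : Set _) := by
    have h1 : N ≤ (centralizer ((zpowers ic : Subgroup ↥C) : Set ↥C)).map π := by
      haveI : Fact (Nat.Prime 2) := ⟨Nat.prime_two⟩
      rw [Cores.map_mk'_centralizer_of_coprime hP (Cores.coprime_card_pPrimeCore 2)]
      refine inf_le_left.trans (centralizer_le ?_)
      rintro _ ⟨x, hx, rfl⟩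
      obtain ⟨k, rfl⟩ := mem_zpowers_iff.1 hx
      rw [SetLike.mem_coe, map_zpow]
      exact zpow_mem (mem_img (show ((ic : ↥C) : G) ∈ X₁ from hi)) k
    refine h1.trans ?_
    rintro _ ⟨g, hg, rfl⟩
    refine Solvable.mem_normalizer_of_conj_mem ?_
    rintro _ ⟨x, hx, rfl⟩
    refine ⟨g * x * g⁻¹, ?_, by simp⟩
    have hgi : (g : G) ∈ centralizer ({i} : Set G) := mem_centralizer_singleton_iff.2
      (congrArg Subtype.val (mem_centralizer_iff.1 hg ic (mem_zpowers ic))).symm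
    exact (mem_normalizer_iff.1 (centralizer_le_normalizer_Q i hgi) _).1 hx
  have hT : R ⊓ N = ⊥ := eq_bot_of_odd_normalized (Cores.pPrimeCore_quotient_self 2) inf_le_right
    (Solvable.le_normalizer_inf hNn le_normalizer) (hodd.of_dvd_nat (card_dvd_of_le inf_le_left))
  have hm : π cc ∈ R ⊓ N :=
    ⟨⟨cc, hci, rfl⟩, h.img_le_centralizer hu hj hju hcj cc.2, h.swap.img_le_centralizer hu hi hiu hci cc.2⟩
  rw [hT, mem_bot] at hm
  exact ⟨cc, (QuotientGroup.eq_one_iff _).1 hm, rfl⟩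

/-- Elements inverted by members of both sets. -/
theorem mem_Q_of_mixed (h : Setting X₁ X₂) {u b j c : G} (hu : u ≠ 1) (hb : b ∈ X₁) (hj : j ∈ X₂)
    (hbu : b * u = u * b) (hju : j * u = u * j) (hcu : c * u = u * c) (hc : Odd (orderOf c))
    (hbc : b * c * b⁻¹ = c⁻¹) (hjc : j * c * j⁻¹ = c⁻¹) : c ∈ Q u := by
  set C := centralizer ({u} : Set G) with hC
  set π := QuotientGroup.mk' (oddCore ↥C)
  set cc : ↥C := ⟨c, mem_centralizer_singleton_iff.2 hcu⟩ with hcc
  set bc : ↥C := ⟨b, mem_centralizer_singleton_iff.2 hbu⟩ with hbcdef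
  set jc : ↥C := ⟨j, mem_centralizer_singleton_iff.2 hju⟩ with hjcdef
  have hmem : π (cc ^ 2) ∈ img X₁ u := by
    have h1 : cc ^ 2 = cc * bc * cc⁻¹ * bc⁻¹ := Subtype.ext (by
      show c ^ 2 = c * b * c⁻¹ * b⁻¹
      have : b * c⁻¹ * b⁻¹ = c := by
        rw [show b * c⁻¹ * b⁻¹ = (b * c * b⁻¹)⁻¹ by group, hbc, inv_inv]
      calc c ^ 2 = c * c := pow_two c
        _ = c * (b * c⁻¹ * b⁻¹) := by rw [this]
        _ = c * b * c⁻¹ * b⁻¹ := by group)
    rw [h1, map_mul, map_inv π bc]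
    exact mul_mem (mem_img (h.conj₁ c b hb : ((cc * bc * cc⁻¹ : ↥C) : G) ∈ X₁))
      (inv_mem (mem_img (show (bc : G) ∈ X₁ from hb)))
  have hcom := mem_centralizer_iff.1 (h.img_commute hu hmem) (π jc) (mem_img (show (jc : G) ∈ X₂ from hj))
  have h4 : π (cc ^ 4) = 1 := by
    have h2 : jc * cc ^ 2 * jc⁻¹ = (cc ^ 2)⁻¹ := by
      rw [← conj_pow]
      rw [show jc * cc * jc⁻¹ = cc⁻¹ from Subtype.ext hjc, inv_pow]
    have h3 : π (cc ^ 2) = (π (cc ^ 2))⁻¹ := by
      rw [← map_inv, ← h2, map_mul, map_mul, map_inv, hcom, mul_inv_cancel_right]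
    rw [show (4 : ℕ) = 2 + 2 by norm_num, pow_add, map_mul]
    nth_rewrite 2 [h3]
    exact mul_inv_cancel _
  refine mem_Q_of_pow (n := 4) ⟨cc ^ 4, (QuotientGroup.eq_one_iff _).1 h4, rfl⟩ ?_
  rw [show (4 : ℕ) = 2 ^ 2 by norm_num]
  exact Nat.Coprime.pow_left 2 (Nat.coprime_two_left.2 hc)

end Setting

end CfsgLib.Goldschmidt
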