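import Cfsg.Agent.Lib.Goldschmidt.Simple
import Cfsg.Agent.Lib.Invol.ZStarFinal
import Cfsg.Prelude.Def_TwoFusion

/-!
Pairs of commuting strongly closed subgroups with trivial intersection: elementary properties,
behaviour on subgroups and quotients, and the simple case.
-/

set_option autoImplicit false
set_option linter.unusedSectionVars false
set_option linter.style.haveILetI false

namespace CfsgLib.Goldschmidt

open Subgroup Cfsg
open scoped commutatorElement

universe u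

variable {G : Type u} [Group G]

/-- All conjugates of elements of `S`. -/
def conjSet (S : Subgroup G) : Set G := {x | ∃ g : G, g * x * g⁻¹ ∈ S}

/-- Two commuting strongly closed subgroups with trivial intersection. -/
structure SCPair (P : Sylow 2 G) (S₁ S₂ : Subgroup G) : Prop where
  closed₁ : IsStronglyClosed S₁ (P : Subgroup G)
  closed₂ : IsStronglyClosed S₂ (P : Subgroup G)
  comm : ∀ a ∈ S₁, ∀ b ∈ S₂, a * b = b * a
  disj : S₁ ⊓ S₂ = ⊥

theorem SCPair.swap {P : Sylow 2 G} {S₁ S₂ : Subgroup G} (h : SCPair P S₁ S₂) : SCPair P S₂ S₁ :=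
  ⟨h.closed₂, h.closed₁, fun a ha b hb => (h.comm b hb a ha).symm, by rw [inf_comm]; exact h.disj⟩

theorem subset_conjSet {S : Subgroup G} {x : G} (hx : x ∈ S) : x ∈ conjSet S := ⟨1, by simpa using hx⟩

theorem conj_mem_conjSet {S : Subgroup G} {x : G} (hx : x ∈ conjSet S) (g : G) : g * x * g⁻¹ ∈ conjSet S := by
  obtain ⟨h, hh⟩ := hx
  exact ⟨h * g⁻¹, by rwa [show h * g⁻¹ * (g * x * g⁻¹) * (h * g⁻¹)⁻¹ = h * x * h⁻¹ by group]⟩

theorem mem_of_closed {S P : Subgroup G} (hS : IsStronglyClosed S P) {x : G} (hx : x ∈ conjSet S) {g : G}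
    (hg : g * x * g⁻¹ ∈ P) : g * x * g⁻¹ ∈ S := by
  obtain ⟨h, hh⟩ := hx
  have := hS.2 _ hh (g * h⁻¹) (by rwa [show g * h⁻¹ * (h * x * h⁻¹) * (g * h⁻¹)⁻¹ = g * x * g⁻¹ by group])
  rwa [show g * h⁻¹ * (h * x * h⁻¹) * (g * h⁻¹)⁻¹ = g * x * g⁻¹ by group] at this

theorem mem_of_closed_self {S P : Subgroup G} (hS : IsStronglyClosed S P) {x : G} (hx : x ∈ conjSet S)
    (hg : x ∈ P) : x ∈ S := by
  have := mem_of_closed hS hx (g := 1) (by simpa using hg)
  simpa using this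

theorem isPGroup_zpowers_of_conjSet {P : Sylow 2 G} {S : Subgroup G} (hS : IsStronglyClosed S (P : Subgroup G))
    {x : G} (hx : x ∈ conjSet S) : IsPGroup 2 ↥(zpowers x) := by
  obtain ⟨g, hg⟩ := hx
  have h1 : (zpowers x).map (MulAut.conj g).toMonoidHom ≤ (P : Subgroup G) := by
    rw [MonoidHom.map_zpowers, zpowers_le]
    exact hS.1 hg
  exact (P.isPGroup'.to_le h1).of_equiv
    ((zpowers x).equivMapOfInjective _ (MulAut.conj g).injective).symm

variable [Finite G]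

theorem exists_conj_le_sylow (P : Sylow 2 G) {R : Subgroup G} (hR : IsPGroup 2 R) :
    ∃ g : G, ∀ r ∈ R, g * r * g⁻¹ ∈ (P : Subgroup G) := by
  haveI : Fact (Nat.Prime 2) := ⟨Nat.prime_two⟩
  obtain ⟨Q, hQ⟩ := hR.exists_le_sylow
  obtain ⟨g, hg⟩ := MulAction.exists_smul_eq G Q P
  refine ⟨g, fun r hr => ?_⟩
  rw [← hg, Sylow.smul_def, Sylow.pointwise_smul_def]
  exact ⟨r, hQ hr, rfl⟩

theorem SCPair.two {P : Sylow 2 G} {S₁ S₂ : Subgroup G} (h : SCPair P S₁ S₂) {R : Subgroup G}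
    (hR : IsPGroup 2 R) {x y : G} (hx : x ∈ conjSet S₁) (hy : y ∈ conjSet S₂) (hxR : x ∈ R) (hyR : y ∈ R) :
    x * y = y * x := by
  obtain ⟨g, hg⟩ := exists_conj_le_sylow P hR
  have h1 := h.comm _ (mem_of_closed h.closed₁ hx (hg x hxR)) _ (mem_of_closed h.closed₂ hy (hg y hyR))
  apply (MulAut.conj g).injective
  simpa [mul_assoc] using h1

/-- The commutator statement, for one group. -/
def Commutes (G : Type u) [Group G] : Prop :=
  ∀ (P : Sylow 2 G) (S₁ S₂ : Subgroup G), SCPair P S₁ S₂ → ∀ x ∈ conjSet S₁, ∀ y ∈ conjSet S₂,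
    ⁅x, y⁆ ∈ oddCore G

theorem SCPair.restrict {P : Sylow 2 G} {S₁ S₂ : Subgroup G} (h : SCPair P S₁ S₂) {H : Subgroup G}
    (hH : Commutes ↥H) (x y : ↥H) (hx : (x : G) ∈ conjSet S₁) (hy : (y : G) ∈ conjSet S₂) :
    ⁅x, y⁆ ∈ oddCore ↥H := by
  haveI : Fact (Nat.Prime 2) := ⟨Nat.prime_two⟩
  obtain ⟨R⟩ : Nonempty (Sylow 2 ↥H) := inferInstance
  obtain ⟨g, hg⟩ := exists_conj_le_sylow P (R.isPGroup'.map H.subtype)
  set f : ↥H →* G := (MulAut.conj g).toMonoidHom.comp H.subtype with hf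
  have hfP : ∀ r ∈ (R : Subgroup ↥H), f r ∈ (P : Subgroup G) := fun r hr => hg _ ⟨r, hr, rfl⟩
  have hsc : ∀ {S : Subgroup G}, IsStronglyClosed S (P : Subgroup G) →
      IsStronglyClosed ((R : Subgroup ↥H) ⊓ S.comap f) (R : Subgroup ↥H) := by
    intro S hS
    refine ⟨inf_le_left, fun t ht l hl => ⟨hl, ?_⟩⟩
    show f (l * t * l⁻¹) ∈ S
    have h1 := hS.2 (f t) ht.2 (f l) (by simpa only [map_mul, map_inv] using hfP _ hl)
    simpa only [map_mul, map_inv] using h1
  have hpair : SCPair R ((R : Subgroup ↥H) ⊓ S₁.comap f) ((R : Subgroup ↥H) ⊓ S₂.comap f) := by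
    refine ⟨hsc h.closed₁, hsc h.closed₂, fun a ha b hb => ?_, ?_⟩
    · apply ((MulAut.conj g).injective.comp H.subtype_injective)
      show f (a * b) = f (b * a)
      rw [map_mul, map_mul]
      exact h.comm _ ha.2 _ hb.2
    · rw [eq_bot_iff]
      intro t ht
      have h1 : f t ∈ (⊥ : Subgroup G) := h.disj ▸ ⟨ht.1.2, ht.2.2⟩
      rw [mem_bot] at h1 ⊢
      exact ((MulAut.conj g).injective.comp H.subtype_injective) (h1.trans (map_one f).symm)
  have hmem : ∀ {S : Subgroup G}, IsStronglyClosed S (P : Subgroup G) → ∀ t : ↥H, (t : G) ∈ conjSet S →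
      t ∈ conjSet ((R : Subgroup ↥H) ⊓ S.comap f) := by
    intro S hS t ht
    have h2 : IsPGroup 2 ↥(zpowers t) := by
      have h3 : (zpowers t).map H.subtype = zpowers (t : G) := MonoidHom.map_zpowers _ _
      exact (isPGroup_zpowers_of_conjSet hS ht).of_equiv
        ((MulEquiv.subgroupCongr h3).symm.trans ((zpowers t).equivMapOfInjective _ H.subtype_injective).symm)
    obtain ⟨l, hl⟩ := exists_conj_le_sylow R h2
    refine ⟨l, hl t (mem_zpowers t), ?_⟩
    show g * ((l : G) * t * (l : G)⁻¹) * g⁻¹ ∈ S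
    refine mem_of_closed hS (conj_mem_conjSet ht l) ?_
    exact hfP _ (hl t (mem_zpowers t))
  exact hH R _ _ hpair x (hmem h.closed₁ x hx) y (hmem h.closed₂ y hy)

theorem SCPair.quotient {P : Sylow 2 G} {S₁ S₂ : Subgroup G} (h : SCPair P S₁ S₂) (N : Subgroup G) [N.Normal]
    (hQ : Commutes (G ⧸ N)) (hd : ∀ a ∈ S₁, ∀ b ∈ S₂, a⁻¹ * b ∈ N → a ∈ N) :
    ∀ x ∈ conjSet S₁, ∀ y ∈ conjSet S₂, QuotientGroup.mk' N ⁅x, y⁆ ∈ oddCore (G ⧸ N) := by
  haveI : Fact (Nat.Prime 2) := ⟨Nat.prime_two⟩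
  set π := QuotientGroup.mk' N with hπ
  set P' : Sylow 2 (G ⧸ N) := P.mapSurjective (QuotientGroup.mk'_surjective N) with hP'
  have hP'e : (P' : Subgroup (G ⧸ N)) = (P : Subgroup G).map π := rfl
  have hsc : ∀ {S : Subgroup G}, IsStronglyClosed S (P : Subgroup G) →
      IsStronglyClosed (S.map π) (P' : Subgroup (G ⧸ N)) := by
    intro S hS
    refine ⟨hP'e ▸ map_mono hS.1, ?_⟩
    rintro _ ⟨s, hs, rfl⟩ q hq
    obtain ⟨g, rfl⟩ := QuotientGroup.mk'_surjective N q
    rw [hP'e, ← map_inv, ← map_mul, ← map_mul] at hq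
    obtain ⟨p, hp, hpe⟩ := hq
    set K := (P : Subgroup G) ⊔ N with hK
    have hxK : g * s * g⁻¹ ∈ K := by
      rw [QuotientGroup.mk'_eq_mk'] at hpe
      obtain ⟨n, hn, hpn⟩ := hpe
      rw [← hpn]
      exact mul_mem (mem_sup_left hp) (mem_sup_right hn)
    have hconj : g * s * g⁻¹ ∈ conjSet S := conj_mem_conjSet (subset_conjSet hs) g
    have hz : IsPGroup 2 ↥(zpowers (⟨g * s * g⁻¹, hxK⟩ : ↥K)) := by
      have h3 : (zpowers (⟨g * s * g⁻¹, hxK⟩ : ↥K)).map K.subtype = zpowers (g * s * g⁻¹) :=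
        MonoidHom.map_zpowers _ _
      exact (isPGroup_zpowers_of_conjSet hS hconj).of_equiv
        ((MulEquiv.subgroupCongr h3).symm.trans ((zpowers _).equivMapOfInjective _ K.subtype_injective).symm)
    obtain ⟨l, hl⟩ := exists_conj_le_sylow (P.subtype (le_sup_left : (P : Subgroup G) ≤ K)) hz
    obtain ⟨q, hq, n, hn, hqn⟩ : ∃ q ∈ (P : Subgroup G), ∃ n ∈ N, (l : G) = q * n := by
      obtain ⟨q, hq, n, hn, e⟩ := mem_sup_of_normal_right.1 l.2
      exact ⟨q, hq, n, hn, e.symm⟩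
    have h4 : (l : G) * (g * s * g⁻¹) * (l : G)⁻¹ ∈ (P : Subgroup G) := hl _ (mem_zpowers _)
    have h5 : n * (g * s * g⁻¹) * n⁻¹ ∈ (P : Subgroup G) := by
      have := mul_mem (mul_mem (inv_mem hq) h4) hq
      rwa [hqn, show q⁻¹ * (q * n * (g * s * g⁻¹) * (q * n)⁻¹) * q = n * (g * s * g⁻¹) * n⁻¹ by group] at this
    refine ⟨_, mem_of_closed hS hconj h5, ?_⟩
    rw [map_mul, map_mul, map_inv π n, show π n = 1 from (QuotientGroup.eq_one_iff n).2 hn, one_mul, inv_one,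
      mul_one, map_mul, map_mul, map_inv]
  have hpair : SCPair P' (S₁.map π) (S₂.map π) := by
    refine ⟨hsc h.closed₁, hsc h.closed₂, ?_, ?_⟩
    · rintro _ ⟨a, ha, rfl⟩ _ ⟨b, hb, rfl⟩
      rw [← map_mul, ← map_mul, h.comm a ha b hb]
    · rw [eq_bot_iff]
      rintro t ⟨⟨a, ha, rfl⟩, b, hb, hba⟩
      rw [mem_bot]
      refine (QuotientGroup.eq_one_iff a).2 (hd a ha b hb ?_)
      exact (QuotientGroup.eq.1 (show (a : G ⧸ N) = (b : G ⧸ N) from hba.symm))
  intro x hx y hy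
  obtain ⟨g, hg⟩ := hx
  obtain ⟨k, hk⟩ := hy
  rw [map_commutatorElement]
  exact hQ P' _ _ hpair (π x) ⟨π g, g * x * g⁻¹, hg, by simp⟩ (π y) ⟨π k, k * y * k⁻¹, hk, by simp⟩

theorem eq_top_of_ne_bot_of_center [IsSimpleGroup G] (hna : ¬ IsMulCommutative G) {z : G}
    (hz : z ∈ center G) : z = 1 := by
  by_contra h
  have htop : center G = ⊤ :=
    (inferInstance : (center G).Normal).eq_bot_or_eq_top.resolve_left fun e => h (mem_bot.1 (e ▸ hz))
  exact hna ⟨⟨fun a b => (mem_center_iff.1 (htop ▸ mem_top a : a ∈ center G) b).symm⟩⟩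

theorem exists_involution {P : Sylow 2 G} {S : Subgroup G} (hS : IsStronglyClosed S (P : Subgroup G))
    (h1 : S ≠ ⊥) : ∃ s ∈ S, orderOf s = 2 := by
  haveI : Fact (Nat.Prime 2) := ⟨Nat.prime_two⟩
  haveI : Nontrivial ↥S := (nontrivial_iff_ne_bot S).2 h1
  obtain ⟨k, hk0, hk⟩ := (IsPGroup.nontrivial_iff_card (P.isPGroup'.to_le hS.1)).1 this
  obtain ⟨s, hs⟩ := exists_prime_orderOf_dvd_card' (G := ↥S) 2 (hk ▸ dvd_pow_self 2 hk0.ne')
  exact ⟨s, s.2, by rw [orderOf_coe, hs]⟩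

theorem exists_four [IsSimpleGroup G] (hna : ¬ IsMulCommutative G) (hO : oddCore G = ⊥) {P : Sylow 2 G}
    {S : Subgroup G} (hS : IsStronglyClosed S (P : Subgroup G)) {s : G} (hs : s ∈ S) (hso : orderOf s = 2) :
    ∃ F : Subgroup G, IsFour {x | x ∈ conjSet S ∧ orderOf x = 2} F ∧ F ≤ S ∧ s ∈ F := by
  haveI : Fact (Nat.Prime 2) := ⟨Nat.prime_two⟩
  have hs1 : s ≠ 1 := fun e => by rw [e, orderOf_one] at hso; omega
  obtain ⟨t, ht, hto, hts, hc⟩ : ∃ t ∈ S, orderOf t = 2 ∧ t ≠ s ∧ t * s = s * t := by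
    by_contra hcon
    push Not at hcon
    haveI : Nontrivial ↥S := (nontrivial_iff_ne_bot S).2 fun e => hs1 (mem_bot.1 (e ▸ hs))
    have hp : IsPGroup 2 ↥S := P.isPGroup'.to_le hS.1
    haveI := hp.center_nontrivial
    obtain ⟨k, hk0, hk⟩ := (IsPGroup.nontrivial_iff_card (hp.to_subgroup _)).1 this
    obtain ⟨w, hw⟩ := exists_prime_orderOf_dvd_card' (G := ↥(center ↥S)) 2 (hk ▸ dvd_pow_self 2 hk0.ne')
    rw [← orderOf_coe, ← orderOf_coe] at hw
    have hwc : ∀ t ∈ S, t * ((w : ↥S) : G) = ((w : ↥S) : G) * t := fun t ht =>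
      congrArg Subtype.val (mem_center_iff.1 w.2 ⟨t, ht⟩)
    have hws : ((w : ↥S) : G) = s := by
      by_contra hne
      exact hcon _ (w : ↥S).2 hw hne (hwc s hs).symm
    have huniq : ∀ t ∈ S, orderOf t = 2 → t = s := fun t ht hto => by
      by_contra hne
      exact hcon t ht hto hne (hws ▸ hwc t ht)
    refine hs1 (eq_top_of_ne_bot_of_center hna (Invol.zstar_center ⟨hso, fun g hg => ?_⟩ hO))
    have hR : IsPGroup 2 ↥(zpowers s ⊔ zpowers (g * s * g⁻¹)) :=
      (isPGroup_zpowers_of_conjSet hS (subset_conjSet hs)).to_sup_of_normal_left'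
        (isPGroup_zpowers_of_conjSet hS (conj_mem_conjSet (subset_conjSet hs) g))
        (zpowers_le.2 (centralizer_le_normalizer _ (mem_centralizer_iff.2 fun a ha => by
          obtain ⟨i, rfl⟩ := mem_zpowers_iff.1 ha
          exact (hg.zpow_left i).eq)))
    obtain ⟨l, hl⟩ := exists_conj_le_sylow P hR
    have h1 := huniq _ (mem_of_closed hS (subset_conjSet hs) (hl _ (mem_sup_left (mem_zpowers s))))
      ((orderOf_injective (MulAut.conj l).toMonoidHom (MulAut.conj l).injective s).trans hso)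
    have h2 := huniq _ (mem_of_closed hS (conj_mem_conjSet (subset_conjSet hs) g)
      (hl _ (mem_sup_right (mem_zpowers _))))
      ((orderOf_injective (MulAut.conj l).toMonoidHom (MulAut.conj l).injective _).trans
        ((orderOf_injective (MulAut.conj g).toMonoidHom (MulAut.conj g).injective s).trans hso))
    exact (MulAut.conj l).injective (h2.trans h1.symm)
  have hn : zpowers t ≤ normalizer (zpowers s : Set G) :=
    zpowers_le.2 (centralizer_le_normalizer _ (mem_centralizer_iff.2 fun a ha => by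
      obtain ⟨i, rfl⟩ := mem_zpowers_iff.1 ha
      exact ((show Commute s t from hc.symm).zpow_left i).eq))
  have hel : ∀ {u v : G}, orderOf u = 2 → v ∈ zpowers u → v = 1 ∨ v = u := by
    intro u v hu hv
    obtain ⟨i, rfl⟩ := mem_zpowers_iff.1 hv
    have hu2 : u ^ (2 : ℤ) = 1 := by rw [zpow_two, ← pow_two, ← hu, pow_orderOf_eq_one]
    rcases Int.even_or_odd i with ⟨m, rfl⟩ | ⟨m, rfl⟩
    · exact Or.inl (by rw [← two_mul, zpow_mul, hu2, one_zpow])
    · exact Or.inr (by rw [zpow_add, zpow_mul, hu2, one_zpow, one_mul, zpow_one])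
  have hdis : zpowers s ⊓ zpowers t = ⊥ := by
    rw [eq_bot_iff]
    rintro v ⟨hv1, hv2⟩
    rcases hel hto hv2 with rfl | rfl
    · exact one_mem _
    · rcases hel hso hv1 with h | h
      · exact h ▸ one_mem _
      · exact absurd h hts
  refine ⟨zpowers s ⊔ zpowers t, ⟨?_, fun v hv hv1 => ?_⟩, sup_le (zpowers_le.2 hs) (zpowers_le.2 ht),
    mem_sup_left (mem_zpowers s)⟩
  · rw [Solvable.card_sup_of_disjoint hn hdis, Nat.card_zpowers, Nat.card_zpowers, hso, hto]
  · obtain ⟨a, ha, b, hb, rfl⟩ := Solvable.exists_mul_of_mem_sup hn hv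
    refine ⟨subset_conjSet (mul_mem (zpowers_le.2 hs ha) (zpowers_le.2 ht hb)), orderOf_eq_prime ?_ hv1⟩
    rcases hel hso ha with rfl | rfl <;> rcases hel hto hb with rfl | rfl
    · simp
    · rw [one_mul, ← hto, pow_orderOf_eq_one]
    · rw [mul_one, ← hso, pow_orderOf_eq_one]
    · rw [Commute.mul_pow hc.symm, ← hso, pow_orderOf_eq_one, hso, ← hto, pow_orderOf_eq_one, one_mul]

/-- In a nonabelian simple group one of the two subgroups is trivial. -/
theorem SCPair.bot_of_simple [IsSimpleGroup G] (hna : ¬ IsMulCommutative G) {P : Sylow 2 G}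
    {S₁ S₂ : Subgroup G} (h : SCPair P S₁ S₂)
    (hind : ∀ H : Subgroup G, H ≠ ⊤ → Commutes ↥H) : S₁ = ⊥ ∨ S₂ = ⊥ := by
  by_contra hcon
  push Not at hcon
  obtain ⟨a, ha, hao⟩ := exists_involution h.closed₁ hcon.1
  obtain ⟨b, hb, hbo⟩ := exists_involution h.closed₂ hcon.2
  have hO : oddCore G = ⊥ := by
    refine (inferInstance : (oddCore G).Normal).eq_bot_or_eq_top.resolve_right fun e => ?_
    have h1 : Odd (Nat.card ↥(oddCore G)) := Cores.odd_card_oddCore
    rw [e, card_top] at h1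
    exact Nat.not_even_iff_odd.2 h1 (even_iff_two_dvd.2 (hao ▸ orderOf_dvd_natCard a))
  set X₁ : Set G := {x | x ∈ conjSet S₁ ∧ orderOf x = 2} with hX₁
  set X₂ : Set G := {x | x ∈ conjSet S₂ ∧ orderOf x = 2} with hX₂
  have hconj : ∀ (S : Subgroup G) (g x : G), x ∈ conjSet S → orderOf x = 2 →
      g * x * g⁻¹ ∈ conjSet S ∧ orderOf (g * x * g⁻¹) = 2 := fun S g x hx hxo =>
    ⟨conj_mem_conjSet hx g, (orderOf_injective (MulAut.conj g).toMonoidHom (MulAut.conj g).injective x).trans hxo⟩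
  have hset : Setting X₁ X₂ :=
    { conj₁ := fun g x hx => hconj S₁ g x hx.1 hx.2
      conj₂ := fun g x hx => hconj S₂ g x hx.1 hx.2
      inv₁ := fun x hx => hx.2
      inv₂ := fun x hx => hx.2
      disj := fun x hx hx' => by
        obtain ⟨g, hg⟩ := hx.1
        have h1 := mem_of_closed h.closed₂ hx'.1 (h.closed₁.1 hg)
        have h2 : g * x * g⁻¹ ∈ (⊥ : Subgroup G) := h.disj ▸ ⟨hg, h1⟩
        have h3 : orderOf (g * x * g⁻¹) = 2 := (hconj S₁ g x hx.1 hx.2).2
        rw [mem_bot.1 h2, orderOf_one] at h3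
        omega
      two := fun R hR x hx y hy hxR hyR => h.two hR hx.1 hy.1 hxR hyR
      ind := fun u hu x y hx hy => h.restrict (hind (centralizer ({u} : Set G)) fun e => hu (eq_top_of_ne_bot_of_center hna
        (mem_center_iff.2 fun g =>
          (mem_centralizer_singleton_iff.1 (e ▸ mem_top g : g ∈ centralizer ({u} : Set G))))))
        x y hx.1 hy.1 }
  have hcomm := commute_of_simple hset fun x hx y hy hxy => by
    have hR : IsPGroup 2 ↥(zpowers x ⊔ zpowers y) :=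
      (isPGroup_zpowers_of_conjSet h.closed₁ hx.1).to_sup_of_normal_left'
        (isPGroup_zpowers_of_conjSet h.closed₂ hy.1)
        (zpowers_le.2 (centralizer_le_normalizer _ (mem_centralizer_iff.2 fun a ha => by
          obtain ⟨i, rfl⟩ := mem_zpowers_iff.1 ha
          exact ((show Commute x y from hxy).zpow_left i).eq)))
    obtain ⟨g, hg⟩ := exists_conj_le_sylow P hR
    obtain ⟨F₁, hF₁, hF₁S, hxF⟩ := exists_four hna hO h.closed₁
      (mem_of_closed h.closed₁ hx.1 (hg x (mem_sup_left (mem_zpowers x)))) (hconj S₁ g x hx.1 hx.2).2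
    obtain ⟨F₂, hF₂, hF₂S, hyF⟩ := exists_four hna hO h.closed₂
      (mem_of_closed h.closed₂ hy.1 (hg y (mem_sup_right (mem_zpowers y)))) (hconj S₂ g y hy.1 hy.2).2
    have q : Quad X₁ X₂ F₁ F₂ := ⟨hset, hF₁, hF₂, fun u hu v hv => h.comm u (hF₁S hu) v (hF₂S hv)⟩
    exact ⟨_, _, q.map g⁻¹, ⟨_, hxF, by simp [mul_assoc]⟩, ⟨_, hyF, by simp [mul_assoc]⟩⟩
  have htop : normalClosure ({a} : Set G) = ⊤ := normalClosure_normal.eq_bot_or_eq_top.resolve_left fun e => by
    have h1 : a ∈ (⊥ : Subgroup G) := e ▸ subset_normalClosure rfl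
    rw [mem_bot.1 h1, orderOf_one] at hao
    omega
  have hle : normalClosure ({a} : Set G) ≤ centralizer ({b} : Set G) := (closure_le _).2 fun g hg => by
    obtain ⟨a', ha', hc⟩ := Group.mem_conjugatesOfSet_iff.1 hg
    obtain rfl : a' = a := ha'
    obtain ⟨c, rfl⟩ := isConj_iff.1 hc
    exact mem_centralizer_singleton_iff.2
      (hcomm _ (hconj S₁ c a' (subset_conjSet ha) hao) b ⟨subset_conjSet hb, hbo⟩)
  have hb1 : b = 1 := eq_top_of_ne_bot_of_center hna (mem_center_iff.2 fun g =>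
    mem_centralizer_singleton_iff.1 (hle (htop ▸ mem_top g)))
  rw [hb1, orderOf_one] at hbo
  omega

end CfsgLib.Goldschmidt
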