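import Cfsg.Agent.Lib.Goldschmidt.Main
import Cfsg.Agent.Lib.Fusion.CentralLift.Transfer

/-!
The normal closures of two commuting strongly closed subgroups.
-/

set_option autoImplicit false
set_option linter.unusedSectionVars false
set_option linter.style.haveILetI false

namespace CfsgLib.Goldschmidt

open Subgroup Cfsg
open scoped commutatorElement

universe u

variable {G : Type u} [Group G] [Finite G]

theorem mem_conjSet_of_mem_conjugatesOfSet {S : Subgroup G} {x : G}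
    (hx : x ∈ Group.conjugatesOfSet (S : Set G)) : x ∈ conjSet S := by
  obtain ⟨s, hs, hc⟩ := Group.mem_conjugatesOfSet_iff.1 hx
  obtain ⟨c, rfl⟩ := isConj_iff.1 hc
  exact ⟨c⁻¹, by rwa [show c⁻¹ * (c * s * c⁻¹) * c⁻¹⁻¹ = s by group]⟩

/-- The normal closures commute. -/
theorem normalClosure_le_centralizer (hO : oddCore G = ⊥) {P : Sylow 2 G} {S₁ S₂ : Subgroup G}
    (h : SCPair P S₁ S₂) :
    normalClosure (S₁ : Set G) ≤ centralizer (normalClosure (S₂ : Set G) : Set G) := by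
  unfold normalClosure
  rw [centralizer_closure]
  refine (closure_le _).2 fun x hx => mem_centralizer_iff.2 fun y hy => ?_
  have h1 := commutes G P S₁ S₂ h x (mem_conjSet_of_mem_conjugatesOfSet hx) y
    (mem_conjSet_of_mem_conjugatesOfSet hy)
  rw [hO, mem_bot] at h1
  exact (commutatorElement_eq_one_iff_mul_comm.1 h1).symm

theorem mem_sylow_sup {P : Sylow 2 G} {S₁ S₂ : Subgroup G}
    (h : IsInternalDirectProduct S₁ S₂ (P : Subgroup G)) {x : G} (hx : x ∈ (P : Subgroup G)) :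
    ∃ a ∈ S₁, ∃ b ∈ S₂, x = a * b := by
  obtain ⟨_, _, hc, _, he⟩ := h
  have hn : S₂ ≤ normalizer (S₁ : Set G) := fun b hb => centralizer_le_normalizer _
    (mem_centralizer_iff.2 fun a ha => hc a ha b hb)
  obtain ⟨a, ha, b, hb, e⟩ := Solvable.exists_mul_of_mem_sup hn (he ▸ hx)
  exact ⟨a, ha, b, hb, e⟩

/-- Central elements of the first factor are outside the normal closure of the second one. -/
theorem normalClosure_inf_eq_bot (P : Sylow 2 G) {S₁ S₂ : Subgroup G}
    (h : IsInternalDirectProduct S₁ S₂ (P : Subgroup G)) (hcl : IsStronglyClosed S₂ (P : Subgroup G))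
    (hB : ∀ b ∈ normalClosure (S₂ : Set G) ⊓ S₁, b ∈ center G) :
    normalClosure (S₂ : Set G) ⊓ S₁ = ⊥ := by
  haveI : Fact (Nat.Prime 2) := ⟨Nat.prime_two⟩
  rw [eq_bot_iff]
  intro b hb
  set N := normalClosure (S₂ : Set G) with hN
  have hS2N : S₂ ≤ N := fun s hs => subset_normalClosure hs
  set Sy : Subgroup ↥N := (P : Subgroup G).subgroupOf N with hSy
  have hidx : ¬ 2 ∣ Sy.index := by
    have := Fusion.CentralLift.not_dvd_relIndex_inf (p := 2) (A := N) P.not_dvd_index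
    rwa [inf_relIndex_right] at this
  have hconj : ∀ {g x : G}, x ∈ S₂ → g * x * g⁻¹ ∈ (P : Subgroup G) → g * x * g⁻¹ ∈ S₂ :=
    fun hx hg => hcl.2 _ hx _ hg
  have key := Fusion.CentralLift.closure_inf_le (p := 2) (Sy := Sy) (K := S₁.subgroupOf N)
    (U := S₂.subgroupOf N) (P.isPGroup'.comap_of_injective N.subtype N.subtype_injective) hidx
    (comap_mono h.1) (comap_mono h.2.1)
    (fun s hs => by
      obtain ⟨a, ha, c, hc, e⟩ := mem_sylow_sup h hs
      have haN : a ∈ N := by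
        have := N.mul_mem s.2 (N.inv_mem (hS2N hc))
        rwa [show (s : G) = a * c from e, mul_inv_cancel_right] at this
      exact ⟨⟨a, haN⟩, ha, ⟨c, hS2N hc⟩, hc, Subtype.ext e⟩)
    (fun s hs u hu => hconj hu ((P : Subgroup G).mul_mem ((P : Subgroup G).mul_mem hs (h.2.1 hu))
      ((P : Subgroup G).inv_mem hs)))
    (fun a ha c _ => Subtype.ext (mem_center_iff.1 (hB a ⟨a.2, ha⟩) c).symm)
    (fun g a ha => by
      show (g : G) * a * (g : G)⁻¹ ∈ S₁
      rw [mem_center_iff.1 (hB a ⟨a.2, ha⟩) g, mul_inv_cancel_right]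
      exact ha)
    (fun g a ha => by
      show (g : G) * a * (g : G)⁻¹ * (a : G)⁻¹ ∈ S₂
      rw [mem_center_iff.1 (hB a ⟨a.2, ha⟩) g, mul_inv_cancel_right, mul_inv_cancel]
      exact one_mem _)
    (fun g u hu hg => hconj hu hg)
    (k := ⟨b, hb.1⟩) hb.2 ?_
  · have h1 : b ∈ S₁ ⊓ S₂ := ⟨hb.2, key⟩
    rwa [h.2.2.2.1] at h1
  set T : Subgroup ↥N := closure ({x : ↥N | (orderOf x).Coprime 2} ∪
    {x : ↥N | ∃ g : ↥N, ∃ u ∈ S₂.subgroupOf N, x = g * u * g⁻¹}) with hT
  suffices H : N ≤ T.map N.subtype by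
    obtain ⟨t, ht, hte⟩ := H hb.1
    rwa [show (⟨b, hb.1⟩ : ↥N) = t from Subtype.ext hte.symm]
  refine (closure_le _).2 fun x hx => ?_
  have hxc := mem_conjSet_of_mem_conjugatesOfSet hx
  have hxN : x ∈ N := subset_closure hx
  refine ⟨⟨x, hxN⟩, subset_closure (Or.inr ?_), rfl⟩
  have h2 : IsPGroup 2 ↥(zpowers (⟨x, hxN⟩ : ↥N)) := by
    have h3 : (zpowers (⟨x, hxN⟩ : ↥N)).map N.subtype = zpowers x := MonoidHom.map_zpowers _ _
    exact (isPGroup_zpowers_of_conjSet hcl hxc).of_equiv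
      ((MulEquiv.subgroupCongr h3).symm.trans
        ((zpowers _).equivMapOfInjective _ N.subtype_injective).symm)
  obtain ⟨Q, hQ⟩ := h2.exists_le_sylow
  have hSyP : IsPGroup 2 ↥Sy := P.isPGroup'.comap_of_injective N.subtype N.subtype_injective
  obtain ⟨l, hl⟩ := exists_conj_le_sylow (hSyP.toSylow hidx) Q.isPGroup'
  have hl' : (l : G) * x * (l : G)⁻¹ ∈ (P : Subgroup G) := hl _ (hQ (mem_zpowers _))
  refine ⟨l⁻¹, l * ⟨x, hxN⟩ * l⁻¹, mem_of_closed hcl hxc hl', by group⟩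

end CfsgLib.Goldschmidt
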