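import Cfsg.Agent.Lib.Goldschmidt.Functor

/-!
In a simple group two sets of involutions as in `Setting`, with enough four-groups, commute elementwise.
-/

set_option autoImplicit false
set_option linter.unusedSectionVars false
set_option linter.style.haveILetI false

namespace CfsgLib.Goldschmidt

open Subgroup Cfsg
open scoped commutatorElement

variable {G : Type*} [Group G]

/-- A finite family of odd subgroups normalizing each other generates an odd subgroup. -/
theorem odd_iSup_of_mutual [Finite G] {ι : Type*} [Finite ι] (W : ι → Subgroup G)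
    (hodd : ∀ i, Odd (Nat.card (W i))) (hn : ∀ i j, W i ≤ normalizer (W j : Set G)) :
    Odd (Nat.card ↥(⨆ i, W i)) := by
  classical
  haveI := Fintype.ofFinite ι
  suffices h : ∀ s : Finset ι, Odd (Nat.card ↥(s.sup W)) by
    have := h Finset.univ
    rwa [Finset.sup_univ_eq_iSup] at this
  intro s
  induction s using Finset.induction_on with
  | empty => simp
  | insert i s _ ih =>
    rw [Finset.sup_insert]
    have hle : s.sup W ≤ normalizer (W i : Set G) := Finset.sup_le fun j _ => hn j i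
    let N := normalizer (W i : Set G)
    haveI : ((W i).subgroupOf N).Normal := normal_in_normalizer
    have h2 := Cores.card_sup_dvd_mul ((W i).subgroupOf N) ((s.sup W).subgroupOf N)
    rw [← subgroupOf_sup le_normalizer hle, Nat.card_congr (subgroupOfEquivOfLe le_normalizer).toEquiv,
      Nat.card_congr (subgroupOfEquivOfLe hle).toEquiv,
      Nat.card_congr (subgroupOfEquivOfLe (sup_le le_normalizer hle)).toEquiv] at h2
    exact ((hodd i).mul ih).of_dvd_nat h2

theorem map_iSup_le_of {ι : Type*} {f : G →* G} {S : ι → Subgroup G} {T : Subgroup G}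
    (h : ∀ i, (S i).map f ≤ T) : (⨆ i, S i).map f ≤ T := by
  rw [Subgroup.map_iSup]
  exact iSup_le h

variable [Finite G]

theorem halfCompletion_map_le (F : Subgroup G) (p g : G) :
    (halfCompletion F p).map (MulAut.conj g).toMonoidHom ≤
      halfCompletion (F.map (MulAut.conj g).toMonoidHom) (g * p * g⁻¹) := by
  refine map_iSup_le_of fun i => ?_
  rw [Subgroup.map_sup, map_commutator, map_inf _ _ _ (MulAut.conj g).injective, map_Q, map_Q,
    MonoidHom.map_zpowers]
  refine le_iSup_of_le (f := fun i : {i : G // i ∈ F.map (MulAut.conj g).toMonoidHom ∧ i ≠ 1} =>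
    ⁅Q i.1, zpowers (g * p * g⁻¹)⁆ ⊔ (Q i.1 ⊓ Q (g * p * g⁻¹)))
    ⟨g * i.1 * g⁻¹, ⟨i.1, i.2.1, rfl⟩, by simpa using i.2.2⟩ le_rfl

theorem IsFour.map {X : Set G} {F : Subgroup G} (hF : IsFour X F) {g : G}
    (hX : ∀ x ∈ X, g * x * g⁻¹ ∈ X) : IsFour X (F.map (MulAut.conj g).toMonoidHom) where
  card := by rw [card_map_of_injective (MulAut.conj g).injective, hF.card]
  mem := by
    rintro _ ⟨a, ha, rfl⟩ h
    exact hX a (hF.mem a ha fun e => h (by simp [e]))

namespace Quad

variable {X₁ X₂ : Set G} {F₁ F₂ : Subgroup G} (q : Quad X₁ X₂ F₁ F₂)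
include q

theorem map (g : G) :
    Quad X₁ X₂ (F₁.map (MulAut.conj g).toMonoidHom) (F₂.map (MulAut.conj g).toMonoidHom) where
  set := q.set
  left := q.left.map (q.set.conj₁ g)
  right := q.right.map (q.set.conj₂ g)
  comm := by
    rintro _ ⟨a, ha, rfl⟩ _ ⟨b, hb, rfl⟩
    exact (map_mul _ a b).symm.trans ((congrArg _ (q.comm a ha b hb)).trans (map_mul _ b a))

theorem map_completion_le {j : G} (hj : j ∈ F₂) (hj1 : j ≠ 1) (g : G) :
    (completion F₁ F₂).map (MulAut.conj g).toMonoidHom ≤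
      completion (F₁.map (MulAut.conj g).toMonoidHom) (F₂.map (MulAut.conj g).toMonoidHom) := by
  rw [q.completion_eq hj hj1, (q.map g).completion_eq (j := g * j * g⁻¹) ⟨j, hj, rfl⟩ (by simpa using hj1)]
  exact halfCompletion_map_le F₁ j g

theorem mem_normalizer_of_fix {j c : G} (hj : j ∈ F₂) (hj1 : j ≠ 1) (hc : c ∈ centralizer (F₁ : Set G))
    (hcj : c * j = j * c) : c ∈ normalizer (completion F₁ F₂ : Set G) := by
  refine Solvable.mem_normalizer_of_conj_mem fun x hx => ?_
  rw [q.completion_eq hj hj1] at hx ⊢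
  have hmap : F₁.map (MulAut.conj c).toMonoidHom = F₁ := by
    exact mem_normalizer_iff_map_conj_eq.1 (centralizer_le_normalizer _ hc)
  have h := halfCompletion_map_le F₁ j c
  rw [hmap, hcj, mul_inv_cancel_right] at h
  exact h ⟨x, hx, rfl⟩

theorem Q_le_normalizer {j : G} (hj : j ∈ F₂) (hj1 : j ≠ 1) :
    Q j ≤ normalizer (completion F₁ F₂ : Set G) := by
  intro x hx
  obtain ⟨a, ha, ha1⟩ := q.left.exists_ne_one
  have hao := q.set.inv₁ a (q.left.mem a ha ha1)
  obtain ⟨b, hb, hba⟩ := q.left.exists_not_mem_zpowers hao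
  have hb1 : b ≠ 1 := fun e => hba (e ▸ one_mem _)
  have hQn : ∀ {l : G}, l ∈ F₁ → l ∈ normalizer (Q j : Set G) := fun {l} hl =>
    centralizer_le_normalizer_Q j (mem_centralizer_singleton_iff.2 (q.comm l hl j hj))
  have hcom : ∀ {l : G}, l ∈ F₁ → l ≠ 1 → ⁅Q j, zpowers l⁆ ≤ normalizer (completion F₁ F₂ : Set G) := by
    intro l hl hl1
    refine le_trans ?_ le_normalizer
    rw [← completion_swap, q.swap.completion_eq hl hl1]
    exact le_iSup_of_le (f := fun i : {i : G // i ∈ F₂ ∧ i ≠ 1} => ⁅Q i.1, zpowers l⁆ ⊔ (Q i.1 ⊓ Q l))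
      ⟨j, hj, hj1⟩ le_sup_left
  obtain ⟨y, hy, c, hc, rfl⟩ := Signalizer.exists_commutator_mul_fixed (hQn ha)
    (by rw [hao]; exact Nat.coprime_two_left.2 (odd_Q j)) hx
  refine mul_mem (hcom ha ha1 hy) ?_
  have hbn : b ∈ normalizer ((Q j ⊓ centralizer ({a} : Set G) : Subgroup G) : Set G) :=
    (Solvable.le_normalizer_inf (A := F₁) (fun l hl => hQn hl) fun l hl => le_normalizer
      (mem_centralizer_singleton_iff.2 (q.left.comm q.set.inv₁ hl ha))) hb
  obtain ⟨y', hy', c', hc', rfl⟩ := Signalizer.exists_commutator_mul_fixed hbn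
    (by rw [q.set.inv₁ b (q.left.mem b hb hb1)]
        exact Nat.coprime_two_left.2 ((odd_Q j).of_dvd_nat (card_dvd_of_le inf_le_left))) hc
  refine mul_mem (hcom hb hb1 (Subgroup.commutator_mono inf_le_left le_rfl hy')) ?_
  exact q.mem_normalizer_of_fix hj hj1 (q.left.mem_centralizer_of_two q.set.inv₁ ha ha1 hb hba
    (mem_centralizer_singleton_iff.1 hc'.1.2) (mem_centralizer_singleton_iff.1 hc'.2)) (Q_comm hc'.1.1)

/-- Cores of centralizers of products of the two four-groups. -/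
theorem commutator_Q_mul_le {a y : G} (ha : a ∈ F₁) (ha1 : a ≠ 1) (hy : y ∈ F₂) (hy1 : y ≠ 1) :
    ⁅Q (a * y), zpowers a⁆ ≤ completion F₁ F₂ := by
  set z := a * y with hz
  have hzE : z ∈ F₁ ⊔ F₂ := mul_mem (mem_sup_left ha) (mem_sup_right hy)
  have haE : a ∈ F₁ ⊔ F₂ := mem_sup_left ha
  have hQn : F₁ ⊔ F₂ ≤ normalizer (Q z : Set G) := fun g hg =>
    centralizer_le_normalizer_Q z (mem_centralizer_singleton_iff.2 (q.commute hg hzE))
  have han := q.le_normalizer_completion haE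
  let S : Subgroup G :=
    { carrier := {x | x ∈ normalizer (completion F₁ F₂ : Set G) ∧ ⁅x, a⁆ ∈ completion F₁ F₂}
      one_mem' := ⟨one_mem _, by rw [commutatorElement_one_left]; exact one_mem _⟩
      mul_mem' := fun {b c} hb hc => ⟨mul_mem hb.1 hc.1, by
        rw [Signalizer.commutator_mul_left]
        exact mul_mem ((mem_normalizer_iff.1 hb.1 _).1 hc.2) hb.2⟩
      inv_mem' := fun {b} hb => ⟨inv_mem hb.1, by
        rw [show ⁅b⁻¹, a⁆ = b⁻¹ * ⁅b, a⁆⁻¹ * b by simp only [commutatorElement_def]; group]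
        exact (mem_normalizer_iff''.1 hb.1 _).1 (inv_mem hb.2)⟩ }
  have hQS : Q z ≤ S := by
    refine le_of_hyp q.elem (odd_Q z) hQn fun U hU x hx => ?_
    set U' := U ⊔ zpowers z with hU'
    have hH : IsHyp (F₁ ⊔ F₂) U' := hU.of_le le_sup_left (sup_le hU.1 (zpowers_le.2 hzE))
    have hzU : z ∈ U' := mem_sup_right (mem_zpowers z)
    have hxU : x ∈ centralizer (U' : Set G) := by
      have h2 : U' ≤ centralizer ({x} : Set G) := sup_le
        (fun u hu => mem_centralizer_singleton_iff.2 (mem_centralizer_iff.1 hx.2 u hu))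
        (zpowers_le.2 (mem_centralizer_singleton_iff.2 (Q_comm hx.1).symm))
      exact mem_centralizer_iff.2 fun u hu => mem_centralizer_singleton_iff.1 (h2 hu)
    have htriv : a ∈ U' → ⁅x, a⁆ ∈ completion F₁ F₂ := fun haU => by
      rw [commutatorElement_eq_one_iff_mul_comm.2 (mem_centralizer_iff.1 hxU a haU).symm]
      exact one_mem _
    by_cases hF1 : F₁ ≤ U'
    · have hyU : y ∈ U' := by
        have := mul_mem (inv_mem (hF1 ha)) hzU
        rwa [hz, inv_mul_cancel_left] at this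
      exact ⟨q.mem_normalizer_of_fix hy hy1 (centralizer_le hF1 hxU)
        (mem_centralizer_iff.1 hxU y hyU).symm, htriv (hF1 ha)⟩
    by_cases hF2 : F₂ ≤ U'
    · have haU : a ∈ U' := by
        have := mul_mem hzU (inv_mem (hF2 hy))
        rwa [hz, mul_inv_cancel_right] at this
      refine ⟨?_, htriv haU⟩
      rw [← completion_swap]
      exact q.swap.mem_normalizer_of_fix ha ha1 (centralizer_le hF2 hxU)
        (mem_centralizer_iff.1 hxU a haU).symm
    obtain ⟨b, hb, hbU⟩ := Set.not_subset.1 hF1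
    obtain ⟨b', hb', hbU'⟩ := Set.not_subset.1 hF2
    refine inf_centralizer_le q.elem (odd_Q z) hQn hH (fun c hc hp => ?_) (fun c hc => ?_) ⟨hx.1, hxU⟩
    · have hcW : c ∈ completion F₁ F₂ := q.M_le_completion hH (q.mem_M_of_mixed hH hb hbU hb' hbU' hp
        ((odd_Q z).of_dvd_nat (Subgroup.orderOf_dvd_natCard _ hc)))
      refine ⟨le_normalizer hcW, ?_⟩
      rw [commutatorElement_def, mul_assoc, mul_assoc, ← mul_assoc a]
      exact mul_mem hcW ((mem_normalizer_iff.1 han _).1 (inv_mem hcW))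
    · refine ⟨q.mem_normalizer_of_fix hy hy1 (centralizer_le (le_sup_left : F₁ ≤ F₁ ⊔ F₂) hc.2)
        (mem_centralizer_iff.1 hc.2 y (mem_sup_right hy)).symm, ?_⟩
      rw [commutatorElement_eq_one_iff_mul_comm.2 (mem_centralizer_iff.1 hc.2 a haE).symm]
      exact one_mem _
  exact Signalizer.commutator_zpowers_le han fun x hx => (hQS hx).2

end Quad

/-- Moving a four-group by the core of a centralizer so as to commute with another one. -/
theorem exists_quad {X₁ X₂ : Set G} {F₁ F₁' F₂ F₂' : Subgroup G} (q : Quad X₁ X₂ F₁ F₂)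
    (q' : Quad X₁ X₂ F₁' F₂') {y : G} (hy : y ∈ F₂) (hy' : y ∈ F₂') (hy1 : y ≠ 1) :
    ∃ g ∈ Q y, Quad X₁ X₂ F₁' (F₂.map (MulAut.conj g).toMonoidHom) := by
  haveI : Fact (Nat.Prime 2) := ⟨Nat.prime_two⟩
  have hn1 : F₁' ≤ normalizer (Q y : Set G) := fun a ha =>
    centralizer_le_normalizer_Q y (mem_centralizer_singleton_iff.2 (q'.comm a ha y hy'))
  have hn2 : F₂ ≤ normalizer (Q y : Set G) := fun b hb =>
    centralizer_le_normalizer_Q y (mem_centralizer_singleton_iff.2 (q.right.comm q.set.inv₂ hb hy))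
  set L := Q y ⊔ F₁' with hL
  have hcomm : ∀ a ∈ F₁', ∀ b ∈ F₂, ⁅a, b⁆ ∈ Q y := by
    intro a ha b hb
    by_cases ha1 : a = 1
    · rw [ha1, commutatorElement_one_left]; exact one_mem _
    by_cases hb1 : b = 1
    · rw [hb1, commutatorElement_one_right]; exact one_mem _
    set ac : ↥(centralizer ({y} : Set G)) :=
      ⟨a, mem_centralizer_singleton_iff.2 (q'.comm a ha y hy')⟩ with hac
    set bc : ↥(centralizer ({y} : Set G)) :=
      ⟨b, mem_centralizer_singleton_iff.2 (q.right.comm q.set.inv₂ hb hy)⟩ with hbc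
    exact ⟨⁅ac, bc⁆, q.set.ind y hy1 ac bc (q'.left.mem a ha ha1) (q.right.mem b hb hb1),
      by simp [hac, hbc, commutatorElement_def]⟩
  have hn3 : F₂ ≤ normalizer (L : Set G) := by
    intro b hb
    refine Solvable.mem_normalizer_of_conj_mem ?_
    suffices L ≤ L.comap (MulAut.conj b).toMonoidHom from this
    refine sup_le (fun x hx => mem_sup_left ((mem_normalizer_iff.1 (hn2 hb) x).1 hx)) fun a ha => ?_
    show b * a * b⁻¹ ∈ L
    rw [show b * a * b⁻¹ = ⁅a, b⁆⁻¹ * a by simp only [commutatorElement_def]; group]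
    exact mul_mem (mem_sup_left (inv_mem (hcomm a ha b hb))) (mem_sup_right ha)
  set H := L ⊔ F₂ with hH
  have hcardH : Nat.card H ∣ Nat.card (Q y) * 16 := by
    have hA : ∀ {A B : Subgroup G}, B ≤ normalizer (A : Set G) →
        Nat.card ↥(A ⊔ B) ∣ Nat.card A * Nat.card B := by
      intro A B hB
      haveI : (A.subgroupOf (normalizer (A : Set G))).Normal := normal_in_normalizer
      have h2 := Cores.card_sup_dvd_mul (A.subgroupOf (normalizer (A : Set G))) (B.subgroupOf _)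
      rwa [← subgroupOf_sup le_normalizer hB, Nat.card_congr (subgroupOfEquivOfLe le_normalizer).toEquiv,
        Nat.card_congr (subgroupOfEquivOfLe hB).toEquiv,
        Nat.card_congr (subgroupOfEquivOfLe (sup_le le_normalizer hB)).toEquiv] at h2
    have h1 := (hA hn3).trans (mul_dvd_mul_right (hA hn1) _)
    rwa [q'.left.card, q.right.card, mul_assoc] at h1
  have hp1 : IsPGroup 2 F₁' := IsPGroup.of_card (n := 2) (by rw [q'.left.card]; norm_num)
  have hp2 : IsPGroup 2 F₂ := IsPGroup.of_card (n := 2) (by rw [q.right.card]; norm_num)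
  have hle1 : F₁' ≤ H := le_sup_right.trans le_sup_left
  have hle2 : F₂ ≤ H := le_sup_right
  obtain ⟨R, hR⟩ := (hp1.comap_of_injective H.subtype H.subtype_injective).exists_le_sylow
  obtain ⟨R', hR'⟩ := (hp2.comap_of_injective H.subtype H.subtype_injective).exists_le_sylow
  obtain ⟨h, hh⟩ := MulAction.exists_smul_eq ↥H R' R
  set RG := (R : Subgroup ↥H).map H.subtype with hRG
  have hRp : IsPGroup 2 RG := R.isPGroup'.map _
  have hQH : Q y ≤ H := le_sup_left.trans le_sup_left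
  have htop : Q y ⊔ RG = H := by
    refine eq_of_le_of_card_ge (sup_le hQH (map_subtype_le _)) ?_
    obtain ⟨n, hn⟩ := hRp.exists_card_eq
    have hdis : Q y ⊓ RG = ⊥ := by
      refine Solvable.disjoint_of_coprime (H := Q y) (K := RG) ?_
      rw [hn]
      exact (Nat.coprime_two_right.2 (odd_Q y)).pow_right n
    have hno : RG ≤ normalizer (Q y : Set G) := (map_subtype_le _).trans
      (sup_le (sup_le le_normalizer hn1) hn2)
    rw [Solvable.card_sup_of_disjoint hno hdis]
    have h1 : Nat.card RG * (R : Subgroup ↥H).index = Nat.card H := by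
      rw [hRG, card_map_of_injective H.subtype_injective]
      exact card_mul_index _
    have h2 : (R : Subgroup ↥H).index ∣ Nat.card (Q y) := by
      refine Nat.Coprime.dvd_of_dvd_mul_right ?_ ((Dvd.intro_left _ h1).trans hcardH)
      rw [show (16 : ℕ) = 2 ^ 4 by norm_num]
      exact ((Nat.prime_two.coprime_iff_not_dvd.2 R.not_dvd_index).symm).pow_right 4
    calc Nat.card H = Nat.card RG * (R : Subgroup ↥H).index := h1.symm
      _ ≤ Nat.card RG * Nat.card (Q y) := Nat.mul_le_mul_left _ (Nat.le_of_dvd Nat.card_pos h2)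
      _ = Nat.card (Q y) * Nat.card RG := mul_comm _ _
  have hconj : ∀ b ∈ F₂, (h : G) * b * (h : G)⁻¹ ∈ RG := by
    intro b hb
    refine ⟨h * ⟨b, hle2 hb⟩ * h⁻¹, ?_, rfl⟩
    rw [← hh, Sylow.smul_def, Sylow.pointwise_smul_def, SetLike.mem_coe]
    exact ⟨⟨b, hle2 hb⟩, hR' hb, rfl⟩
  obtain ⟨k, hk, r, hr, hkr⟩ := Solvable.exists_mul_of_mem_sup (K := Q y) (A := RG)
    ((map_subtype_le _).trans (sup_le (sup_le le_normalizer hn1) hn2)) (htop.ge h.2)
  -- `h = k r`; conjugate by `r⁻¹ k r`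
  refine ⟨r⁻¹ * k * r, (mem_normalizer_iff''.1 (((map_subtype_le _).trans
    (sup_le (sup_le le_normalizer hn1) hn2)) hr) k).1 hk, q.set, q'.left, q.right.map (q.set.conj₂ _), ?_⟩
  rintro a ha _ ⟨b, hb, rfl⟩
  by_cases ha1 : a = 1
  · simp [ha1]
  by_cases hb1 : b = 1
  · simp [hb1]
  show a * (r⁻¹ * k * r * b * (r⁻¹ * k * r)⁻¹) = r⁻¹ * k * r * b * (r⁻¹ * k * r)⁻¹ * a
  refine q.set.two RG hRp a (q'.left.mem a ha ha1) _ (q.set.conj₂ _ b (q.right.mem b hb hb1))
    ⟨⟨a, hle1 ha⟩, hR ha, rfl⟩ ?_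
  rw [show r⁻¹ * k * r * b * (r⁻¹ * k * r)⁻¹ = r⁻¹ * ((k * r) * b * (k * r)⁻¹) * r by group, ← hkr]
  exact mul_mem (mul_mem (inv_mem hr) (hconj b hb)) hr

/-- The simple case. -/
theorem commute_of_simple [IsSimpleGroup G] {X₁ X₂ : Set G} (h : Setting X₁ X₂)
    (hfour : ∀ x ∈ X₁, ∀ y ∈ X₂, x * y = y * x → ∃ F₁ F₂, Quad X₁ X₂ F₁ F₂ ∧ x ∈ F₁ ∧ y ∈ F₂) :
    ∀ x ∈ X₁, ∀ y ∈ X₂, x * y = y * x := by
  classical
  intro x hx y hy
  have hy1 : y ≠ 1 := h.ne_one₂ hy
  let ι := {p : Subgroup G × Subgroup G // Quad X₁ X₂ p.1 p.2 ∧ y ∈ p.2}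
  set W := ⨆ p : ι, completion p.1.1 p.1.2 with hW
  have hWodd : Odd (Nat.card W) := by
    refine odd_iSup_of_mutual _ (fun p => p.2.1.odd_completion) fun p p' => ?_
    obtain ⟨g, hg, q''⟩ := exists_quad p'.2.1 p.2.1 p'.2.2 p.2.2 hy1
    have hgn := p'.2.1.Q_le_normalizer p'.2.2 hy1 hg
    have hyg : y ∈ p'.1.2.map (MulAut.conj g).toMonoidHom := by
      refine ⟨y, p'.2.2, ?_⟩
      show g * y * g⁻¹ = y
      rw [Q_comm hg, mul_inv_cancel_right]
    rw [p.2.1.completion_eq p.2.2 hy1, ← q''.completion_eq hyg hy1, ← completion_swap]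
    obtain ⟨i, hi, hi1⟩ := q''.left.exists_ne_one
    rw [q''.swap.completion_eq hi hi1]
    refine iSup_le fun l => le_trans (sup_le ?_ inf_le_left) ?_ (b := Q l.1)
    · refine Solvable.commutator_le_of_le_normalizer (zpowers_le.2 ?_)
      exact centralizer_le_normalizer_Q _ (mem_centralizer_singleton_iff.2 (q''.comm i hi _ l.2.1))
    · obtain ⟨l0, hl0, hl⟩ := l.2.1
      have hl01 : l0 ≠ 1 := fun e => l.2.2 (by rw [← hl, e, map_one])
      rw [← hl, show (MulAut.conj g).toMonoidHom l0 = g * l0 * g⁻¹ from rfl, ← map_Q]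
      rintro _ ⟨w, hw, rfl⟩
      exact mul_mem (mul_mem hgn (p'.2.1.Q_le_normalizer hl0 hl01 hw)) (inv_mem hgn)
  have hCW : centralizer ({y} : Set G) ≤ normalizer (W : Set G) := by
    intro c hc
    refine Solvable.mem_normalizer_of_conj_mem ?_
    suffices W.map (MulAut.conj c).toMonoidHom ≤ W from fun w hw => this ⟨w, hw, rfl⟩
    refine map_iSup_le_of fun p => (p.2.1.map_completion_le p.2.2 hy1 c).trans ?_
    refine le_iSup (fun p : ι => completion p.1.1 p.1.2) ⟨(_, _), p.2.1.map c, y, p.2.2, ?_⟩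
    show c * y * c⁻¹ = y
    rw [mem_centralizer_singleton_iff.1 hc, mul_inv_cancel_right]
  have key : ∀ x ∈ X₁, x ∈ normalizer (W : Set G) ∧ (W = ⊥ → x * y = y * x) := by
    intro x hx
    set r := x * y with hr
    have hxx : x * x = 1 := by rw [← pow_two, ← h.inv₁ x hx, pow_orderOf_eq_one]
    have hyy : y * y = 1 := by rw [← pow_two, ← h.inv₂ y hy, pow_orderOf_eq_one]
    have hxr : x * r * x⁻¹ = r⁻¹ := by
      rw [hr, mul_inv_rev, inv_eq_of_mul_eq_one_right hxx, inv_eq_of_mul_eq_one_right hyy, ← mul_assoc x x y,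
        hxx, one_mul]
    have hyr : y * r * y⁻¹ = r⁻¹ := by
      rw [hr, mul_inv_rev, inv_eq_of_mul_eq_one_right hxx, inv_eq_of_mul_eq_one_right hyy]
      calc y * (x * y) * y = y * x * (y * y) := by group
        _ = y * x := by rw [hyy, mul_one]
    obtain ⟨a, m, hm, hn⟩ := Nat.exists_eq_two_pow_mul_odd (orderOf_pos r).ne'
    obtain ⟨m', hmm, t, ht⟩ : ∃ m', m ∣ m' ∧ ∃ t, m' = 4 * t + 1 := by
      obtain ⟨s, hs⟩ := hm
      rcases Nat.even_or_odd s with ⟨u, hu⟩ | ⟨u, hu⟩
      · exact ⟨m, dvd_rfl, u, by omega⟩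
      · exact ⟨3 * m, Dvd.intro_left 3 rfl, 3 * u + 2, by omega⟩
    set k := r ^ (2 * t) with hk
    set x' := k * x * k⁻¹ with hx'
    set z := r ^ m' with hz
    have hxk : x * k * x⁻¹ = k⁻¹ := by rw [hk, ← conj_pow, hxr, inv_pow]
    have hx'z : x' * y = z := by
      have h1 : x' = k * k * x := by
        have h2 : x * k⁻¹ = k * x := by
          calc x * k⁻¹ = (x * k⁻¹ * x⁻¹) * x := by group
            _ = k * x := by rw [show x * k⁻¹ * x⁻¹ = (x * k * x⁻¹)⁻¹ by group, hxk, inv_inv]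
        rw [hx', mul_assoc, h2, ← mul_assoc]
      rw [h1, mul_assoc, ← hr, hz, hk, ht, ← pow_add, ← pow_succ]
      congr 1
      omega
    have hxz : x * z * x⁻¹ = z⁻¹ := by rw [hz, ← conj_pow, hxr, inv_pow]
    have hyz : y * z * y⁻¹ = z⁻¹ := by rw [hz, ← conj_pow, hyr, inv_pow]
    have hx'X : x' ∈ X₁ := h.conj₁ k x hx
    have hz2a : z ^ (2 ^ a) = 1 := by
      obtain ⟨c, hc⟩ := hmm
      rw [hz, ← pow_mul, hc, show m * c * 2 ^ a = 2 ^ a * m * c by ring, ← hn, pow_mul, pow_orderOf_eq_one,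
        one_pow]
    have hcomm : x' * y = y * x' := by
      have hnz : zpowers y ≤ normalizer (zpowers z : Set G) := zpowers_le.2 (by
        rw [mem_normalizer_iff_map_conj_eq, MonoidHom.map_zpowers]
        exact (congrArg zpowers hyz).trans zpowers_inv)
      obtain ⟨b, -, hb⟩ := (Nat.dvd_prime_pow Nat.prime_two).1 (orderOf_dvd_of_pow_eq_one hz2a)
      have hR : IsPGroup 2 ↥(zpowers z ⊔ zpowers y) := by
        refine IsPGroup.to_le ?_ le_rfl
        have hzp : IsPGroup 2 ↥(zpowers z) := IsPGroup.of_card (n := b) (by rw [Nat.card_zpowers, hb])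
        have hyp : IsPGroup 2 ↥(zpowers y) := IsPGroup.of_card (n := 1) (by
          rw [Nat.card_zpowers, h.inv₂ y hy, pow_one])
        exact hzp.to_sup_of_normal_left' hyp hnz
      refine h.two _ hR x' hx'X y hy ?_ (mem_sup_right (mem_zpowers y))
      have h2 := mul_mem (mem_sup_left (T := zpowers y) (mem_zpowers z))
        (inv_mem (mem_sup_right (S := zpowers z) (mem_zpowers y)))
      have h3 : z * y⁻¹ = x' := by rw [← hx'z, mul_inv_cancel_right]
      rwa [h3] at h2
    have hz1 : z ≠ 1 := fun e => by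
      rw [← hx'z] at e
      exact h.disj x' hx'X (by rwa [eq_inv_of_mul_eq_one_left e, inv_eq_of_mul_eq_one_right hyy])
    have hzz : z⁻¹ = z := by
      refine inv_eq_of_mul_eq_one_right ?_
      rw [← hx'z]
      calc x' * y * (x' * y) = x' * (y * x') * y := by group
        _ = x' * (x' * y) * y := by rw [← hcomm]
        _ = (x' * x') * (y * y) := by group
        _ = 1 := by rw [hyy, ← pow_two, ← h.inv₁ x' hx'X, pow_orderOf_eq_one, one_mul]
    have hxc : x ∈ centralizer ({z} : Set G) := mem_centralizer_singleton_iff.2 (by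
      calc x * z = (x * z * x⁻¹) * x := by group
        _ = z * x := by rw [hxz, hzz])
    have hyc : y ∈ centralizer ({z} : Set G) := mem_centralizer_singleton_iff.2 (by
      calc y * z = (y * z * y⁻¹) * y := by group
        _ = z * y := by rw [hyz, hzz])
    have hr2 : r ^ 2 ∈ Q z := by
      refine ⟨⁅(⟨x, hxc⟩ : ↥(centralizer ({z} : Set G))), ⟨y, hyc⟩⁆, h.ind z hz1 ⟨x, hxc⟩ ⟨y, hyc⟩ hx hy, ?_⟩
      show x * y * x⁻¹ * y⁻¹ = r ^ 2
      rw [inv_eq_of_mul_eq_one_right hxx, inv_eq_of_mul_eq_one_right hyy, pow_two, hr]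
      group
    have hkQ : k ∈ Q z := by rw [hk, pow_mul]; exact pow_mem hr2 t
    obtain ⟨F₁, F₂, q, hxF, hyF⟩ := hfour x' hx'X y hy hcomm
    have hk2 : k ^ 2 ∈ completion F₁ F₂ := by
      have h2 : k ^ 2 = ⁅k, x'⁆ := by
        have h3 : x' * k⁻¹ * x'⁻¹ = k := by
          rw [hx', show k * x * k⁻¹ * k⁻¹ * (k * x * k⁻¹)⁻¹ = k * (x * k * x⁻¹)⁻¹ * k⁻¹ by group, hxk,
            inv_inv, mul_inv_cancel_right]
        calc k ^ 2 = k * k := pow_two k
          _ = k * (x' * k⁻¹ * x'⁻¹) := by rw [h3]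
          _ = ⁅k, x'⁆ := by rw [commutatorElement_def]; group
      rw [h2]
      exact q.commutator_Q_mul_le hxF (h.ne_one₁ hx'X) hyF hy1
        (Signalizer.commutator_mem (hx'z ▸ hkQ))
    have hkW : k ∈ completion F₁ F₂ := Techniques.CoprimeGenCB.mem_of_pow_mem_coprime hk2
      (Nat.coprime_two_left.2 ((odd_Q z).of_dvd_nat (Subgroup.orderOf_dvd_natCard _ hkQ)))
    have hkW' : k ∈ W := le_iSup (fun p : ι => completion p.1.1 p.1.2) ⟨(F₁, F₂), q, hyF⟩ hkW
    have hxeq : x = k⁻¹ * x' * k := by rw [hx']; group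
    refine ⟨?_, fun hb => ?_⟩
    · rw [hxeq]
      exact mul_mem (mul_mem (inv_mem (le_normalizer hkW'))
        (hCW (mem_centralizer_singleton_iff.2 hcomm))) (le_normalizer hkW')
    · have hk1 : k = 1 := mem_bot.1 (hb ▸ hkW')
      have h5 : x = x' := hxeq.trans (by rw [hk1, inv_one, one_mul, mul_one])
      exact (congrArg (· * y) h5).trans (hcomm.trans (congrArg (y * ·) h5.symm))
  have htop : normalClosure X₁ = ⊤ := normalClosure_normal.eq_bot_or_eq_top.resolve_left fun e =>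
    h.ne_one₁ hx (mem_bot.1 (e ▸ subset_normalClosure hx))
  have hnW : normalizer (W : Set G) = ⊤ := by
    rw [eq_top_iff, ← htop]
    refine (closure_le _).2 fun g hg => ?_
    obtain ⟨b, hb, hc⟩ := Group.mem_conjugatesOfSet_iff.1 hg
    obtain ⟨c, rfl⟩ := isConj_iff.1 hc
    exact (key _ (h.conj₁ c b hb)).1
  refine (key x hx).2 ((normalizer_eq_top_iff.1 hnW).eq_bot_or_eq_top.resolve_right fun e => ?_)
  rw [e, card_top] at hWodd
  have h2 := orderOf_dvd_natCard x
  rw [h.inv₁ x hx] at h2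
  exact (Nat.not_even_iff_odd.2 hWodd) (even_iff_two_dvd.2 h2)

end CfsgLib.Goldschmidt
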